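import Cfsg.Agent.Omega.Half.Basic

/-!
# Counting central vectors (project OMEGA, II.d2 = (L3); bb OMEGA 13507 (C), 13999 (R4), 13727 (N1))

`W` a 2-group, `C ≤ W`, `ker W C` = the elements of `N(W) ∩ N(C)` which are trivial on the cosets of
`C` in `W`.  The index `l` is good (`Wit W C V l x`) if some `x ∈ ker W C` centralises the other
blocks `V i` and acts fixed point freely of order 3 on the block `V l`.

`Cnt.card_zc` : `r` pairwise disjoint nonempty `T`-invariant sets of good indices give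
`2 ^ (r + 1) ≤ |Ω₁ Z(WT)|`.
-/

set_option autoImplicit false

namespace Cfsg.Agent.Omega.IITwo.Count

open Subgroup Cfsg Cfsg.Agent.ZN

universe u

variable {G : Type u} [Group G]

theorem conj_mem {A : Subgroup G} {g x : G} (hg : g ∈ normalizer (A : Set G)) (hx : x ∈ A) :
    g * x * g⁻¹ ∈ A := (mem_normalizer_iff.mp hg x).mp hx

theorem conj_mem' {A : Subgroup G} {g x : G} (hg : g ∈ normalizer (A : Set G)) (hx : x ∈ A) :
    g⁻¹ * x * g ∈ A := by
  have := conj_mem (inv_mem hg) hx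
  rwa [inv_inv] at this

theorem mem_norm [Finite G] {A : Subgroup G} {g : G} (h : ∀ x ∈ A, g * x * g⁻¹ ∈ A) :
    g ∈ normalizer (A : Set G) := by
  have h1 : A.map (MulAut.conj g).toMonoidHom = A := by
    refine eq_of_le_of_card_ge ?_ ?_
    · rintro _ ⟨x, hx, rfl⟩
      exact h x hx
    · rw [card_map_of_injective (MulAut.conj g).injective]
  rw [mem_normalizer_iff]
  intro x
  refine ⟨h x, fun hx => ?_⟩
  rw [← h1] at hx
  obtain ⟨y, hy, hxy⟩ := hx
  have h2 : g * y * g⁻¹ = g * x * g⁻¹ := by simpa using hxy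
  have h3 := mul_left_cancel (mul_right_cancel h2)
  exact h3 ▸ hy

/-- The elements of `N(W) ∩ N(C)` trivial on the cosets of `C` in `W`. -/
def ker (W C : Subgroup G) : Subgroup G where
  carrier := {g | g ∈ normalizer (W : Set G) ∧ g ∈ normalizer (C : Set G) ∧
    ∀ w ∈ W, w⁻¹ * (g * w * g⁻¹) ∈ C}
  one_mem' := ⟨one_mem _, one_mem _, fun w _ => by simp⟩
  mul_mem' := by
    rintro a b ⟨ha1, ha2, ha3⟩ ⟨hb1, hb2, hb3⟩
    refine ⟨mul_mem ha1 hb1, mul_mem ha2 hb2, fun w hw => ?_⟩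
    have h1 := mul_mem (ha3 w hw) (conj_mem ha2 (hb3 w hw))
    have h2 : w⁻¹ * (a * w * a⁻¹) * (a * (w⁻¹ * (b * w * b⁻¹)) * a⁻¹) =
        w⁻¹ * (a * b * w * (a * b)⁻¹) := by group
    rwa [h2] at h1
  inv_mem' := by
    rintro a ⟨ha1, ha2, ha3⟩
    refine ⟨inv_mem ha1, inv_mem ha2, fun w hw => ?_⟩
    have h1 := conj_mem (inv_mem ha2) (inv_mem (ha3 w hw))
    have h2 : a⁻¹ * (w⁻¹ * (a * w * a⁻¹))⁻¹ * a⁻¹⁻¹ = w⁻¹ * (a⁻¹ * w * a⁻¹⁻¹) := by group
    rwa [h2] at h1

theorem mem_ker {W C : Subgroup G} {g : G} : g ∈ ker W C ↔ g ∈ normalizer (W : Set G) ∧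
    g ∈ normalizer (C : Set G) ∧ ∀ w ∈ W, w⁻¹ * (g * w * g⁻¹) ∈ C := Iff.rfl

theorem conj_mem_ker {W C : Subgroup G} {t g : G} (ht1 : t ∈ normalizer (W : Set G))
    (ht2 : t ∈ normalizer (C : Set G)) (hg : g ∈ ker W C) : t * g * t⁻¹ ∈ ker W C := by
  obtain ⟨h1, h2, h3⟩ := hg
  refine ⟨mul_mem (mul_mem ht1 h1) (inv_mem ht1), mul_mem (mul_mem ht2 h2) (inv_mem ht2),
    fun w hw => ?_⟩
  have h4 := conj_mem ht2 (h3 _ (conj_mem' ht1 hw))
  have h5 : t * ((t⁻¹ * w * t)⁻¹ * (g * (t⁻¹ * w * t) * g⁻¹)) * t⁻¹ =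
      w⁻¹ * (t * g * t⁻¹ * w * (t * g * t⁻¹)⁻¹) := by group
  rwa [h5] at h4

/-- The index `l` is good, witnessed by `x`. -/
structure Wit {ι : Type*} (W C : Subgroup G) (V : ι → Subgroup G) (l : ι) (x : G) : Prop where
  mem : x ∈ ker W C
  cent : ∀ i, i ≠ l → ∀ v ∈ V i, x * v = v * x
  nor : x ∈ normalizer (V l : Set G)
  three : ∀ v ∈ V l, v * (x * v * x⁻¹) * (x * (x * v * x⁻¹) * x⁻¹) = 1

variable {ι : Type*} {W C T : Subgroup G} {V : ι → Subgroup G}

/-- `V l ≤ ker W C` for good `l`. -/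
theorem Wit.le_ker {l : ι} {x : G} (h : Wit W C V l x) (hW : V l ≤ normalizer (W : Set G))
    (hC : V l ≤ normalizer (C : Set G)) (hsq : ∀ v ∈ V l, v * v = 1) : V l ≤ ker W C := by
  intro v hv
  have h1 := h.three v hv
  have hy : x * v * x⁻¹ ∈ V l := conj_mem h.nor hv
  have hy' : x * (x * v * x⁻¹) * x⁻¹ ∈ V l := conj_mem h.nor hy
  set y := x * v * x⁻¹ with hyd
  -- `v = y x y⁻¹ x⁻¹`
  have h2 : (x * y * x⁻¹)⁻¹ = x * y * x⁻¹ := inv_eq_of_mul_eq_one_right (hsq _ hy')
  have h3 : v * (y * (x * y * x⁻¹)) = 1 := by rw [← mul_assoc]; exact h1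
  have h4 : v = y * (x * y * x⁻¹) := by
    have h5 : v * v * (y * (x * y * x⁻¹)) = v := by rw [mul_assoc, h3, mul_one]
    rw [hsq v hv, one_mul] at h5
    exact h5.symm
  have h6 : v = (y * x * y⁻¹) * x⁻¹ := by
    calc v = y * (x * y * x⁻¹) := h4
      _ = y * (x * y * x⁻¹)⁻¹ := by rw [h2]
      _ = (y * x * y⁻¹) * x⁻¹ := by group
  rw [h6]
  exact mul_mem (conj_mem_ker (hW hy) (hC hy) h.mem) (inv_mem h.mem)

/-- The data of the count. -/
structure Cnt (W C T : Subgroup G) (V : ι → Subgroup G) (J : Set ι) (x : ι → G) : Prop where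
  W2 : IsPGroup 2 W
  T2 : IsPGroup 2 T
  TW : T ≤ normalizer (W : Set G)
  TC : T ≤ normalizer (C : Set G)
  VT : ∀ l ∈ J, V l ≤ T
  ne : ∀ l ∈ J, V l ≠ ⊥
  sq : ∀ l ∈ J, ∀ v ∈ V l, v * v = 1
  comm : ∀ i ∈ J, ∀ l ∈ J, ∀ u ∈ V i, ∀ v ∈ V l, u * v = v * u
  CV : ∀ l ∈ J, C ≤ centralizer (V l : Set G)
  wit : ∀ l ∈ J, Wit W C V l (x l)
  perm : ∀ t ∈ T, ∀ l, ∃ m, (V l).map (MulAut.conj t).toMonoidHom = V m

/-- `⟨V_l^W : l ∈ O⟩`. -/
def NN (W : Subgroup G) (V : ι → Subgroup G) (O : Set ι) : Subgroup G :=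
  closure {y | ∃ l ∈ O, ∃ w ∈ W, ∃ v ∈ V l, y = w * v * w⁻¹}

theorem NN_mono {O O' : Set ι} (h : O ⊆ O') : NN W V O ≤ NN W V O' :=
  closure_mono (by rintro y ⟨l, hl, w, hw, v, hv, rfl⟩; exact ⟨l, h hl, w, hw, v, hv, rfl⟩)

theorem mem_NN {O : Set ι} {l : ι} (hl : l ∈ O) {w v : G} (hw : w ∈ W) (hv : v ∈ V l) :
    w * v * w⁻¹ ∈ NN W V O := subset_closure ⟨l, hl, w, hw, v, hv, rfl⟩

theorem le_NN {O : Set ι} {l : ι} (hl : l ∈ O) : V l ≤ NN W V O := fun v hv => by
  have := mem_NN (W := W) (V := V) hl (one_mem W) hv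
  simpa using this

theorem W_le_normalizer_NN [Finite G] {O : Set ι} : W ≤ normalizer (NN W V O : Set G) := by
  intro w hw
  refine mem_norm ?_
  intro y hy
  induction hy using closure_induction with
  | mem y hy =>
    obtain ⟨l, hl, w', hw', v, hv, rfl⟩ := hy
    have := mem_NN (W := W) (V := V) hl (mul_mem hw hw') hv
    have h2 : w * (w' * v * w'⁻¹) * w⁻¹ = w * w' * v * (w * w')⁻¹ := by group
    rw [h2]; exact this
  | one => simp
  | mul a b _ _ ha hb =>
    have : w * (a * b) * w⁻¹ = (w * a * w⁻¹) * (w * b * w⁻¹) := by group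
    rw [this]; exact mul_mem ha hb
  | inv a _ ha =>
    have : w * a⁻¹ * w⁻¹ = (w * a * w⁻¹)⁻¹ := by group
    rw [this]; exact inv_mem ha

namespace Cnt

variable {J : Set ι} {x : ι → G}

section
variable (h : Cnt W C T V J x)
include h

theorem V_le_ker {l : ι} (hl : l ∈ J) : V l ≤ ker W C :=
  (h.wit l hl).le_ker ((h.VT l hl).trans h.TW) ((h.VT l hl).trans h.TC) (h.sq l hl)

/-- equivariance: an element of `ker W C` normalising `V l` acts on `w v w⁻¹` as on `v`. -/
theorem equiv {l : ι} (hl : l ∈ J) {k w v : G} (hk : k ∈ ker W C) (hw : w ∈ W)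
    (hkv : k * v * k⁻¹ ∈ V l) : k * (w * v * w⁻¹) * k⁻¹ = w * (k * v * k⁻¹) * w⁻¹ := by
  have h1 := mem_centralizer_iff.mp (h.CV l hl (hk.2.2 w hw)) _ hkv
  set c := w⁻¹ * (k * w * k⁻¹) with hc
  have h3 : k * w * k⁻¹ = w * c := by rw [hc]; group
  calc k * (w * v * w⁻¹) * k⁻¹ = (k * w * k⁻¹) * (k * v * k⁻¹) * (k * w * k⁻¹)⁻¹ := by group
    _ = w * (c * (k * v * k⁻¹)) * c⁻¹ * w⁻¹ := by rw [h3]; group
    _ = w * ((k * v * k⁻¹) * c) * c⁻¹ * w⁻¹ := by rw [h1]
    _ = w * (k * v * k⁻¹) * w⁻¹ := by group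

theorem comm_gen {i l : ι} (hi : i ∈ J) (hl : l ∈ J) {w w' u v : G} (hw : w ∈ W) (hw' : w' ∈ W)
    (hu : u ∈ V i) (hv : v ∈ V l) :
    (w * u * w⁻¹) * (w' * v * w'⁻¹) = (w' * v * w'⁻¹) * (w * u * w⁻¹) := by
  have h0 : u * v * u⁻¹ = v := by rw [h.comm i hi l hl u hu v hv]; group
  have h1 : u * ((w⁻¹ * w') * v * (w⁻¹ * w')⁻¹) * u⁻¹ = (w⁻¹ * w') * v * (w⁻¹ * w')⁻¹ := by
    have := h.equiv hl (h.V_le_ker hi hu) (mul_mem (inv_mem hw) hw') (v := v) (by rw [h0]; exact hv)
    rw [this, h0]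
  calc (w * u * w⁻¹) * (w' * v * w'⁻¹)
      = w * (u * ((w⁻¹ * w') * v * (w⁻¹ * w')⁻¹) * u⁻¹) * u * w⁻¹ := by group
    _ = w * ((w⁻¹ * w') * v * (w⁻¹ * w')⁻¹) * u * w⁻¹ := by rw [h1]
    _ = (w' * v * w'⁻¹) * (w * u * w⁻¹) := by group

theorem comm_NN {a b : G} (ha : a ∈ NN W V J) (hb : b ∈ NN W V J) : a * b = b * a := by
  have key : NN W V J ≤ centralizer (NN W V J : Set G) := by
    rw [NN, centralizer_closure, closure_le]
    rintro a ⟨i, hi, w, hw, u, hu, rfl⟩
    rw [SetLike.mem_coe, mem_centralizer_iff]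
    rintro b ⟨l, hl, w', hw', v, hv, rfl⟩
    exact (h.comm_gen hi hl hw hw' hu hv).symm
  exact mem_centralizer_iff.mp (key hb) a ha

theorem sq_NN {a : G} (ha : a ∈ NN W V J) : a * a = 1 := by
  induction ha using closure_induction with
  | mem y hy =>
    obtain ⟨l, hl, w, hw, v, hv, rfl⟩ := hy
    have : w * v * w⁻¹ * (w * v * w⁻¹) = w * (v * v) * w⁻¹ := by group
    rw [this, h.sq l hl v hv]; group
  | one => simp
  | mul a b ha hb iha ihb =>
    have hc := h.comm_NN hb ha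
    calc a * b * (a * b) = a * (b * a) * b := by group
      _ = a * (a * b) * b := by rw [hc]
      _ = (a * a) * (b * b) := by group
      _ = 1 := by rw [iha, ihb, one_mul]
  | inv a _ iha =>
    have : a⁻¹ * a⁻¹ = (a * a)⁻¹ := by group
    rw [this, iha, inv_one]

/-- `x i` centralises `NN O` if `i ∉ O`. -/
theorem x_comm {i : ι} (hi : i ∈ J) {O : Set ι} (hO : O ⊆ J) (hiO : i ∉ O) {a : G}
    (ha : a ∈ NN W V O) : x i * a = a * x i := by
  induction ha using closure_induction with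
  | mem y hy =>
    obtain ⟨l, hl, w, hw, v, hv, rfl⟩ := hy
    have hne : l ≠ i := fun e => hiO (e ▸ hl)
    have h0 : x i * v * (x i)⁻¹ = v := by rw [(h.wit i hi).cent l hne v hv]; group
    have h1 := h.equiv (hO hl) (h.wit i hi).mem hw (v := v) (by rw [h0]; exact hv)
    rw [h0] at h1
    calc x i * (w * v * w⁻¹) = x i * (w * v * w⁻¹) * (x i)⁻¹ * x i := by group
      _ = w * v * w⁻¹ * x i := by rw [h1]
  | one => simp
  | mul a b _ _ iha ihb => rw [← mul_assoc, iha, mul_assoc, ihb, mul_assoc]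
  | inv a _ iha =>
    calc x i * a⁻¹ = a⁻¹ * (a * x i) * a⁻¹ := by group
      _ = a⁻¹ * (x i * a) * a⁻¹ := by rw [iha]
      _ = a⁻¹ * x i := by group

theorem x_conj {i : ι} (hi : i ∈ J) {y : G} (hy : y ∈ NN W V ({i} : Set ι)) :
    x i * y * (x i)⁻¹ ∈ NN W V ({i} : Set ι) := by
  induction hy using closure_induction with
  | mem y hy =>
    obtain ⟨l, hl, w, hw, v, hv, rfl⟩ := hy
    obtain rfl : l = i := hl
    have h1 := conj_mem (h.wit l hi).nor hv
    have e1 := h.equiv hi (h.wit l hi).mem hw (v := v) h1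
    rw [e1]; exact mem_NN (Set.mem_singleton l) hw h1
  | one => simp
  | mul a b _ _ ha hb =>
    have : x i * (a * b) * (x i)⁻¹ = (x i * a * (x i)⁻¹) * (x i * b * (x i)⁻¹) := by group
    rw [this]; exact mul_mem ha hb
  | inv a _ ha =>
    have : x i * a⁻¹ * (x i)⁻¹ = (x i * a * (x i)⁻¹)⁻¹ := by group
    rw [this]; exact inv_mem ha

/-- `x i` is fixed point free of order 3 on `NN {i}`. -/
theorem three_NN {i : ι} (hi : i ∈ J) {a : G} (ha : a ∈ NN W V ({i} : Set ι)) :
    a * (x i * a * (x i)⁻¹) * (x i * (x i * a * (x i)⁻¹) * (x i)⁻¹) = 1 := by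
  have hsub : ({i} : Set ι) ⊆ J := Set.singleton_subset_iff.mpr hi
  have hJ : NN W V ({i} : Set ι) ≤ NN W V J := NN_mono hsub
  induction ha using closure_induction with
  | mem y hy =>
    obtain ⟨l, hl, w, hw, v, hv, rfl⟩ := hy
    obtain rfl : l = i := hl
    have h1 := conj_mem (h.wit l hi).nor hv
    have h2 := conj_mem (h.wit l hi).nor h1
    have e1 := h.equiv hi (h.wit l hi).mem hw (v := v) h1
    have e2 := h.equiv hi (h.wit l hi).mem hw (v := x l * v * (x l)⁻¹) h2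
    rw [e1, e2]
    have h3 := (h.wit l hi).three v hv
    generalize x l * (x l * v * (x l)⁻¹) * (x l)⁻¹ = y2 at *
    generalize x l * v * (x l)⁻¹ = y1 at *
    calc w * v * w⁻¹ * (w * y1 * w⁻¹) * (w * y2 * w⁻¹) = w * (v * y1 * y2) * w⁻¹ := by group
      _ = 1 := by rw [h3]; group
  | one => simp
  | mul a b ha hb a2 b2 =>
    have a1 := h.x_conj hi ha
    have b1 := h.x_conj hi hb
    have a3 := h.x_conj hi a1
    have e1 : x i * (a * b) * (x i)⁻¹ = (x i * a * (x i)⁻¹) * (x i * b * (x i)⁻¹) := by group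
    have e2 : x i * (x i * (a * b) * (x i)⁻¹) * (x i)⁻¹ =
        (x i * (x i * a * (x i)⁻¹) * (x i)⁻¹) * (x i * (x i * b * (x i)⁻¹) * (x i)⁻¹) := by group
    rw [e2, e1]
    have c1 : b * (x i * a * (x i)⁻¹) = (x i * a * (x i)⁻¹) * b := h.comm_NN (hJ hb) (hJ a1)
    have c2 := h.comm_NN (hJ hb) (hJ a3)
    have c3 := h.comm_NN (hJ b1) (hJ a3)
    generalize x i * (x i * a * (x i)⁻¹) * (x i)⁻¹ = a'' at *
    generalize x i * (x i * b * (x i)⁻¹) * (x i)⁻¹ = b'' at *
    generalize x i * a * (x i)⁻¹ = a' at *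
    generalize x i * b * (x i)⁻¹ = b' at *
    calc a * b * (a' * b') * (a'' * b'')
        = a * (b * a') * (b' * a'') * b'' := by group
      _ = a * (a' * b) * (a'' * b') * b'' := by rw [c1, c3]
      _ = a * a' * (b * a'') * b' * b'' := by group
      _ = a * a' * (a'' * b) * b' * b'' := by rw [c2]
      _ = (a * a' * a'') * (b * b' * b'') := by group
      _ = 1 := by rw [a2, b2, one_mul]
  | inv a ha a2 =>
    have i1 : a⁻¹ = a := inv_eq_of_mul_eq_one_right (h.sq_NN (hJ ha))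
    rw [i1]; exact a2

/-- no element `≠ 1` of `NN {i}` is centralised by `x i`. -/
theorem fix_one {i : ι} (hi : i ∈ J) {a : G} (ha : a ∈ NN W V ({i} : Set ι))
    (hx : x i * a = a * x i) : a = 1 := by
  have h1 := h.three_NN hi ha
  have h2 : x i * a * (x i)⁻¹ = a := by rw [hx]; group
  rw [h2, h2] at h1
  have h3 := h.sq_NN (NN_mono (Set.singleton_subset_iff.mpr hi) ha)
  rw [h3, one_mul] at h1
  exact h1

/-- no element `≠ 1` of `NN O` is centralised by all `x l`, `l ∈ O`. -/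
theorem fix_finset [DecidableEq ι] (O : Finset ι) (hO : (O : Set ι) ⊆ J) :
    ∀ a ∈ NN W V (O : Set ι), (∀ l ∈ O, x l * a = a * x l) → a = 1 := by
  induction O using Finset.induction_on with
  | empty =>
    intro a ha _
    have : NN W V ((∅ : Finset ι) : Set ι) = ⊥ := by
      rw [NN]
      have : {y : G | ∃ l ∈ ((∅ : Finset ι) : Set ι), ∃ w ∈ W, ∃ v ∈ V l, y = w * v * w⁻¹} = ∅ := by
        ext y; simp
      rw [this, Subgroup.closure_empty]
    rw [this] at ha
    exact mem_bot.mp ha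
  | insert i O hi ih =>
    intro a ha hx
    have hiJ : i ∈ J := hO (by simp)
    have hOJ : (O : Set ι) ⊆ J := fun l hl => hO (by simp at hl ⊢; exact Or.inr hl)
    have hsing : ({i} : Set ι) ⊆ J := Set.singleton_subset_iff.mpr hiJ
    have hle : NN W V ((insert i O : Finset ι) : Set ι) ≤
        NN W V ({i} : Set ι) ⊔ NN W V (O : Set ι) := by
      rw [NN, closure_le]
      rintro y ⟨l, hl, w, hw, v, hv, rfl⟩
      simp only [Finset.coe_insert, Set.mem_insert_iff, Finset.mem_coe] at hl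
      rcases hl with rfl | hl
      · exact mem_sup_left (mem_NN (Set.mem_singleton l) hw hv)
      · exact mem_sup_right (mem_NN hl hw hv)
    have hnor : NN W V ({i} : Set ι) ≤ normalizer (NN W V (O : Set ι) : Set G) := by
      intro y hy
      rw [mem_normalizer_iff]
      intro b
      have key : ∀ b ∈ NN W V (O : Set ι), y * b * y⁻¹ = b := fun b hb => by
        rw [h.comm_NN (NN_mono hsing hy) (NN_mono hOJ hb)]; group
      constructor
      · intro hb; rw [key b hb]; exact hb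
      · intro hb
        have h1 := h.comm_NN (NN_mono hsing hy) (NN_mono hOJ hb)
        have h2 : b = y * b * y⁻¹ := by
          calc b = y⁻¹ * (y * b * y⁻¹ * y) := by group
            _ = y⁻¹ * (y * (y * b * y⁻¹)) := by rw [← h1]
            _ = y * b * y⁻¹ := by group
        rw [h2]; exact hb
    have ha' := hle ha
    rw [← SetLike.mem_coe, coe_mul_of_left_le_normalizer_right _ _ hnor] at ha'
    obtain ⟨n, hn, m, hm, rfl⟩ := ha'
    simp only at hx
    have hm1 : m = 1 := by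
      refine ih hOJ m hm ?_
      intro l hl
      have h1 := hx l (Finset.mem_insert_of_mem hl)
      have h2 : x l * n = n * x l :=
        h.x_comm (hOJ hl) hsing (fun e => hi (by rw [Set.mem_singleton_iff] at e; rwa [← e])) hn
      have h3 : n * (x l * m) = n * (m * x l) := by
        rw [← mul_assoc, ← h2, mul_assoc, h1, mul_assoc]
      exact mul_left_cancel h3
    subst hm1
    change n * 1 = 1
    simp only [mul_one] at hx ⊢
    exact h.fix_one hiJ hn (hx i (Finset.mem_insert_self _ _))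

theorem fix [Finite ι] {O : Set ι} (hO : O ⊆ J) {a : G} (ha : a ∈ NN W V O)
    (hx : ∀ l ∈ O, x l * a = a * x l) : a = 1 := by
  classical
  have := Fintype.ofFinite ι
  refine h.fix_finset O.toFinset (by simpa using hO) a (by simpa using ha) ?_
  intro l hl
  exact hx l (by simpa using hl)

/-! ### The central vectors -/

/-- `O` is `T`-invariant. -/
theorem T_le_normalizer_NN [Finite G] {O : Set ι}
    (hinv : ∀ t ∈ T, ∀ l ∈ O, ∃ m ∈ O, (V l).map (MulAut.conj t).toMonoidHom = V m) :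
    T ≤ normalizer (NN W V O : Set G) := by
  intro t ht
  refine mem_norm ?_
  intro y hy
  induction hy using closure_induction with
  | mem y hy =>
    obtain ⟨l, hl, w, hw, v, hv, rfl⟩ := hy
    obtain ⟨m, hm, hml⟩ := hinv t ht l hl
    have h1 : t * v * t⁻¹ ∈ V m := by
      rw [← hml]; exact ⟨v, hv, by simp⟩
    have h2 : t * w * t⁻¹ ∈ W := conj_mem (h.TW ht) hw
    have h3 : t * (w * v * w⁻¹) * t⁻¹ = (t * w * t⁻¹) * (t * v * t⁻¹) * (t * w * t⁻¹)⁻¹ := by group
    rw [h3]; exact mem_NN hm h2 h1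
  | one => simp
  | mul a b _ _ ha hb =>
    have : t * (a * b) * t⁻¹ = (t * a * t⁻¹) * (t * b * t⁻¹) := by group
    rw [this]; exact mul_mem ha hb
  | inv a _ ha =>
    have : t * a⁻¹ * t⁻¹ = (t * a * t⁻¹)⁻¹ := by group
    rw [this]; exact inv_mem ha

/-- A nontrivial central vector in `NN O`. -/
theorem exists_central [Finite G] {O : Set ι} (hO : O ⊆ J) (hne : O.Nonempty)
    (hinv : ∀ t ∈ T, ∀ l ∈ O, ∃ m ∈ O, (V l).map (MulAut.conj t).toMonoidHom = V m)
    {X : Subgroup G} (hX : IsPGroup 2 X) (hWT : X = W ⊔ T) :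
    ∃ f ∈ NN W V O, f ≠ 1 ∧ f ∈ zc X := by
  obtain ⟨l, hl⟩ := hne
  have hN2 : IsPGroup 2 (NN W V O) := by
    rw [IsPGroup]
    rintro ⟨a, ha⟩
    refine ⟨1, ?_⟩
    ext
    have := h.sq_NN (NN_mono hO ha)
    simpa [pow_two] using this
  have hN1 : NN W V O ≠ ⊥ := by
    intro h0
    apply h.ne l (hO hl)
    rw [eq_bot_iff, ← h0]
    exact le_NN hl
  have hXN : X ≤ normalizer (NN W V O : Set G) := by
    rw [hWT]
    exact sup_le W_le_normalizer_NN (h.T_le_normalizer_NN hinv)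
  obtain ⟨f, hf, hf1, hfix⟩ := Half.exists_fixed hN2 hN1 hX hXN
  refine ⟨f, hf, hf1, ?_⟩
  have hfX : f ∈ X := by
    have : NN W V O ≤ X := by
      rw [NN, closure_le]
      rintro y ⟨i, hi, w, hw, v, hv, rfl⟩
      rw [hWT]
      have h1 : w ∈ W ⊔ T := mem_sup_left hw
      have h2 : v ∈ W ⊔ T := mem_sup_right (h.VT i (hO hi) hv)
      exact mul_mem (mul_mem h1 h2) (inv_mem h1)
    exact this hf
  refine MinSimple.VModule.mem_zc.mpr ⟨hfX, fun y hy => ?_, ?_⟩
  · have h5 := hfix y hy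
    calc y * f = y * f * y⁻¹ * y := by group
      _ = f * y := by rw [h5]
  · rw [pow_two]; exact h.sq_NN (NN_mono hO hf)

/-- **The count**: pairwise disjoint nonempty `T`-invariant sets `O i` (`i ∈ s`) of good indices and a central
involution `z` of `X = WT` commuting with all the `x l` give `2 ^ (|s| + 1) ≤ |Ω₁ Z(X)|`. -/
theorem card_zc [Finite G] [Finite ι] {κ : Type*} [DecidableEq κ] (s : Finset κ) (O : κ → Set ι)
    (hO : ∀ i ∈ s, O i ⊆ J) (hne : ∀ i ∈ s, (O i).Nonempty)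
    (hinv : ∀ i ∈ s, ∀ t ∈ T, ∀ l ∈ O i, ∃ m ∈ O i, (V l).map (MulAut.conj t).toMonoidHom = V m)
    (hdis : ∀ i ∈ s, ∀ j ∈ s, i ≠ j → Disjoint (O i) (O j))
    {X : Subgroup G} (hX : IsPGroup 2 X) (hWT : X = W ⊔ T)
    {z : G} (hz : z ∈ zc X) (hz1 : z ≠ 1) (hzx : ∀ l ∈ J, x l * z = z * x l) :
    ∃ A : Subgroup G, A ≤ zc X ∧ (∀ l ∈ J, (∀ i ∈ s, l ∉ O i) → ∀ a ∈ A, x l * a = a * x l) ∧
      2 ^ (s.card + 1) ≤ Nat.card A := by
  induction s using Finset.induction_on with
  | empty =>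
    refine ⟨zpowers z, zpowers_le.mpr hz, ?_, ?_⟩
    · intro l hl _ a ha
      obtain ⟨k, rfl⟩ := mem_zpowers_iff.mp ha
      exact (Commute.zpow_right (show Commute (x l) z from hzx l hl) k)
    · rw [Finset.card_empty, zero_add, pow_one, Nat.card_zpowers]
      have h1 : orderOf z ≠ 1 := fun e => hz1 (orderOf_eq_one_iff.mp e)
      have h2 : 0 < orderOf z := orderOf_pos z
      omega
  | insert i s hi ih =>
    obtain ⟨A, hA, hAx, hcard⟩ := ih (fun j hj => hO j (Finset.mem_insert_of_mem hj))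
      (fun j hj => hne j (Finset.mem_insert_of_mem hj))
      (fun j hj => hinv j (Finset.mem_insert_of_mem hj))
      (fun j hj k hk => hdis j (Finset.mem_insert_of_mem hj) k (Finset.mem_insert_of_mem hk))
    have hii := Finset.mem_insert_self i s
    obtain ⟨f, hf, hf1, hfz⟩ := h.exists_central (hO i hii) (hne i hii) (hinv i hii) hX hWT
    have hfA : f ∉ A := by
      intro hfA
      apply hf1
      refine h.fix (hO i hii) hf ?_
      intro l hl
      refine hAx l (hO i hii hl) ?_ f hfA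
      intro j hj hlj
      have hij : i ≠ j := fun e => hi (e ▸ hj)
      exact Set.disjoint_left.mp (hdis i hii j (Finset.mem_insert_of_mem hj) hij) hl hlj
    refine ⟨A ⊔ zpowers f, sup_le hA (zpowers_le.mpr hfz), ?_, ?_⟩
    · intro l hl hlO a ha
      have h1 : A ⊔ zpowers f ≤ centralizer ({x l} : Set G) := by
        refine sup_le ?_ ?_
        · intro b hb
          refine mem_centralizer_iff.mpr ?_
          intro y hy
          rw [Set.mem_singleton_iff.mp hy]
          exact hAx l hl (fun j hj => hlO j (Finset.mem_insert_of_mem hj)) b hb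
        · rw [zpowers_le]
          refine mem_centralizer_iff.mpr ?_
          intro y hy
          rw [Set.mem_singleton_iff.mp hy]
          exact h.x_comm hl (hO i hii) (hlO i hii) hf
      exact mem_centralizer_iff.mp (h1 ha) _ rfl
    · have h1 : A < A ⊔ zpowers f := by
        refine lt_of_le_of_ne le_sup_left ?_
        intro e
        apply hfA
        rw [e]
        exact mem_sup_right (mem_zpowers f)
      have h2 : Nat.card A * A.relIndex (A ⊔ zpowers f) = Nat.card (A ⊔ zpowers f : Subgroup G) :=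
        Half.card_mul_relIndex h1.le
      have h3 : A.relIndex (A ⊔ zpowers f) ≠ 1 := fun e => h1.not_ge (relIndex_eq_one.mp e)
      have h4 : A.relIndex (A ⊔ zpowers f) ≠ 0 := fun e => by
        rw [e, mul_zero] at h2
        exact Nat.card_pos.ne h2
      rw [Finset.card_insert_of_notMem hi, ← h2, pow_succ]
      exact Nat.mul_le_mul hcard (by omega)

end

end Cnt

/-! ### The rank of `Ω₁ Z` along a chain -/

/-- `|Ω₁ Z(X)| ≤ |Ω₁ Z(X')| ^ 2` if `|X' : X| = 2`. -/
theorem card_zc_le_sq [Finite G] {X X' : Subgroup G} (hle : X ≤ X')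
    (hidx : X.relIndex X' = 2) : Nat.card (zc X) ≤ Nat.card (zc X') ^ 2 := by
  classical
  have hne : X ≠ X' := by
    rintro rfl
    rw [relIndex_self] at hidx
    omega
  obtain ⟨t, ht, htX⟩ := SetLike.exists_of_lt (lt_of_le_of_ne hle hne)
  have hidx' : (X.subgroupOf X').index = 2 := hidx
  have hnorm : X' ≤ normalizer (X : Set G) := by
    have : (X.subgroupOf X').Normal := normal_of_index_eq_two hidx'
    exact (normal_subgroupOf_iff_le_normalizer hle).mp this
  have htz : ∀ a ∈ zc X, t * a * t⁻¹ ∈ zc X := by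
    intro a ha
    obtain ⟨h1, h2, h3⟩ := MinSimple.VModule.mem_zc.mp ha
    refine MinSimple.VModule.mem_zc.mpr ⟨conj_mem (hnorm ht) h1, fun b hb => ?_, ?_⟩
    · have h4 := h2 _ (conj_mem' (hnorm ht) hb)
      calc b * (t * a * t⁻¹) = t * ((t⁻¹ * b * t) * a) * t⁻¹ := by group
        _ = t * (a * (t⁻¹ * b * t)) * t⁻¹ := by rw [h4]
        _ = t * a * t⁻¹ * b := by group
    · rw [conj_pow, h3]; group
  have hab : ∀ a ∈ zc X, ∀ b ∈ zc X, a * b = b * a := fun a ha b hb =>
    (MinSimple.VModule.mem_zc.mp hb).2.1 a (MinSimple.VModule.mem_zc.mp ha).1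
  have htt : t * t ∈ X := by
    have h1 := mul_mem_iff_of_index_two hidx' (a := ⟨t, ht⟩) (b := ⟨t, ht⟩)
    have := h1.mpr Iff.rfl
    exact mem_subgroupOf.mp this
  -- the commutator map
  let φ : zc X →* zc X :=
    { toFun := fun a => ⟨t * a * t⁻¹ * a, mul_mem (htz a a.2) a.2⟩
      map_one' := by ext; simp
      map_mul' := by
        rintro ⟨a, ha⟩ ⟨b, hb⟩
        ext
        have h1 := hab a ha _ (htz b hb)
        change t * (a * b) * t⁻¹ * (a * b) = t * a * t⁻¹ * a * (t * b * t⁻¹ * b)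
        calc t * (a * b) * t⁻¹ * (a * b) = (t * a * t⁻¹) * (t * b * t⁻¹) * a * b := by group
          _ = (t * a * t⁻¹) * ((t * b * t⁻¹) * a) * b := by group
          _ = (t * a * t⁻¹) * (a * (t * b * t⁻¹)) * b := by rw [h1]
          _ = t * a * t⁻¹ * a * (t * b * t⁻¹ * b) := by group }
  have hφ : ∀ a : zc X, ((φ a : zc X) : G) = t * a * t⁻¹ * a := fun a => rfl
  -- an element of `zc X` centralised by `t` is in `zc X'`
  have hcent : ∀ a ∈ zc X, t * a * t⁻¹ = a → a ∈ zc X' := by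
    intro a ha hta
    obtain ⟨h1, h2, h3⟩ := MinSimple.VModule.mem_zc.mp ha
    have hta' : t * a = a * t := by
      calc t * a = t * a * t⁻¹ * t := by group
        _ = a * t := by rw [hta]
    refine MinSimple.VModule.mem_zc.mpr ⟨hle h1, fun b hb => ?_, h3⟩
    by_cases hbX : b ∈ X
    · exact h2 b hbX
    · have h4 : t⁻¹ * b ∈ X := by
        have h5 := mul_mem_iff_of_index_two hidx' (a := (⟨t, ht⟩ : X')⁻¹) (b := ⟨b, hb⟩)
        rw [inv_mem_iff] at h5
        have h6 := h5.mpr (iff_of_false (fun h => htX (mem_subgroupOf.mp h))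
          (fun h => hbX (mem_subgroupOf.mp h)))
        exact mem_subgroupOf.mp h6
      have h7 := h2 _ h4
      calc b * a = t * (t⁻¹ * b * a) := by group
        _ = t * (a * (t⁻¹ * b)) := by rw [h7]
        _ = (t * a) * (t⁻¹ * b) := by group
        _ = (a * t) * (t⁻¹ * b) := by rw [hta']
        _ = a * b := by group
  have hker : ∀ a : zc X, φ a = 1 → (a : G) ∈ zc X' := by
    intro a ha
    refine hcent a a.2 ?_
    have h1 : t * (a : G) * t⁻¹ * a = 1 := congrArg Subtype.val ha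
    have h2 : (a : G) * a = 1 := by
      have := (MinSimple.VModule.mem_zc.mp a.2).2.2
      rwa [pow_two] at this
    have h3 : (a : G)⁻¹ = a := inv_eq_of_mul_eq_one_right h2
    exact (eq_inv_of_mul_eq_one_left h1).trans h3
  have hrange : ∀ a : zc X, ((φ a : zc X) : G) ∈ zc X' := by
    intro a
    refine hcent _ (φ a).2 ?_
    rw [hφ]
    have h1 := (MinSimple.VModule.mem_zc.mp a.2).2.1 _ htt
    have h2 := hab _ (htz a a.2) a a.2
    calc t * (t * (a : G) * t⁻¹ * a) * t⁻¹ = (t * t * a) * (t⁻¹ * t⁻¹) * (t * a * t⁻¹) := by group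
      _ = (a * (t * t)) * (t⁻¹ * t⁻¹) * (t * a * t⁻¹) := by rw [h1]
      _ = a * (t * a * t⁻¹) := by group
      _ = t * a * t⁻¹ * a := h2.symm
  have e1 : Nat.card φ.ker * Nat.card φ.range = Nat.card (zc X) := by
    rw [← Subgroup.index_ker φ]
    exact Subgroup.card_mul_index φ.ker
  have e2 : Nat.card φ.ker ≤ Nat.card (zc X') := by
    refine Nat.card_le_card_of_injective (fun a : φ.ker => (⟨((a : zc X) : G), hker a a.2⟩ : zc X')) ?_
    intro a b hab
    have := congrArg Subtype.val hab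
    exact Subtype.ext (Subtype.ext this)
  have e3 : Nat.card φ.range ≤ Nat.card (zc X') := by
    refine Nat.card_le_card_of_injective
      (fun a : φ.range => (⟨((a : zc X) : G), by
        obtain ⟨b, hb⟩ := a.2
        rw [← hb]; exact hrange b⟩ : zc X')) ?_
    intro a b hab
    have := congrArg Subtype.val hab
    exact Subtype.ext (Subtype.ext this)
  rw [← e1, pow_two]
  exact Nat.mul_le_mul e2 e3

end Cfsg.Agent.Omega.IITwo.Count
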