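import Cfsg.Agent.Omega.IITwo.Count

/-!
# Bad indices (project OMEGA, II.d2 = (L3), `q = 2`; bb OMEGA 13727 (N1) in element form)

`A` normalises all blocks `V l` (of order 4), `b l ∈ A` is nontrivial on `V l` and trivial on the
other blocks, `e l` is of order 3 on `V l` and trivial on the other blocks.

* `wit_of_ker` : if `y ∈ A ∩ ker W C` is nontrivial on `V l` then `[e l, y]` makes `l` good;
* `two_pow_bad_le` : `2 ^ #bad ≤ |A : A ∩ ker W C|`;
* `relIndex_ker_dvd` : `|A : A ∩ ker W C|` divides `(|W : C| - 1)!`.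
-/

set_option autoImplicit false

namespace Cfsg.Agent.Omega.IITwo.Count

open Subgroup Cfsg Cfsg.Agent.ZN

universe u

variable {G : Type u} [Group G] {ι : Type*} {W C A : Subgroup G} {V : ι → Subgroup G}

theorem rel_ne [Finite G] (A B : Subgroup G) : A.relIndex B ≠ 0 :=
  index_ne_zero_of_finite (H := A.subgroupOf B)

/-- `e` acts on `V` as a fixed point free element of order 3. -/
def Three (V : Subgroup G) (e : G) : Prop :=
  ∀ v ∈ V, v * (e * v * e⁻¹) * (e * (e * v * e⁻¹) * e⁻¹) = 1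

theorem cube_of_three {U : Subgroup G} {e : G} (hn : e ∈ normalizer (U : Set G)) (h : Three U e)
    (hc : ∀ u ∈ U, ∀ v ∈ U, u * v = v * u) {v : G} (hv : v ∈ U) :
    e * (e * (e * v * e⁻¹) * e⁻¹) * e⁻¹ = v := by
  have h1 := conj_mem hn hv
  have h2 := conj_mem hn h1
  have h3 := conj_mem hn h2
  have e1 := h v hv
  have e2 := h _ h1
  generalize e * (e * (e * v * e⁻¹) * e⁻¹) * e⁻¹ = v3 at *
  generalize e * (e * v * e⁻¹) * e⁻¹ = v2 at *
  generalize e * v * e⁻¹ = v1 at *
  have e3 : v * (v1 * v2) = (v1 * v2) * v := hc v hv _ (mul_mem h1 h2)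
  have e4 : (v1 * v2) * v = (v1 * v2) * v3 := by
    rw [← e3, ← mul_assoc, e1, e2]
  exact (mul_left_cancel e4).symm

/-- `y` inverts `e` on a block of order 4. -/
theorem inverts [Finite G] {U : Subgroup G} (h4 : Nat.card U = 4) (hsq : ∀ u ∈ U, u * u = 1)
    (hc : ∀ u ∈ U, ∀ v ∈ U, u * v = v * u) {e y : G} (hen : e ∈ normalizer (U : Set G))
    (he : Three U e) (hyn : y ∈ normalizer (U : Set G)) (hy2 : IsPGroup 2 (zpowers y))
    (hy : ¬ zpowers y ≤ centralizer (U : Set G)) {v : G} (hv : v ∈ U) :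
    (y * e⁻¹ * y⁻¹) * v * (y * e⁻¹ * y⁻¹)⁻¹ = e * v * e⁻¹ := by
  have hU2 : IsPGroup 2 U := by
    rintro ⟨a, ha⟩
    refine ⟨1, ?_⟩
    ext
    have := hsq a ha
    simpa [pow_two] using this
  have hU1 : U ≠ ⊥ := by
    rintro rfl
    rw [card_bot] at h4
    omega
  obtain ⟨a, ha, ha1, hfix⟩ := Half.exists_fixed hU2 hU1 hy2 (zpowers_le.mpr hyn)
  have hya : y * a * y⁻¹ = a := hfix y (mem_zpowers y)
  set b := e * a * e⁻¹ with hb
  have hbU : b ∈ U := conj_mem hen ha
  have hthree := he a ha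
  rw [← hb] at hthree
  have hab : a ≠ b := by
    intro hab
    rw [← hab] at hthree hb
    rw [hsq a ha, one_mul, ← hb] at hthree
    exact ha1 hthree
  have hb1 : b ≠ 1 := by
    intro h
    apply ha1
    have : a = e⁻¹ * b * e := by rw [hb]; group
    rw [this, h]; group
  have hebe : e * b * e⁻¹ = a * b := by
    have h5 : (a * b) * (a * b) = 1 := hsq _ (mul_mem ha hbU)
    have h6 : (a * b) * (e * b * e⁻¹) = (a * b) * (a * b) := by rw [h5]; exact hthree
    exact mul_left_cancel h6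
  have heab : e * (a * b) * e⁻¹ = a := by
    have h5 : e * (a * b) * e⁻¹ = (e * a * e⁻¹) * (e * b * e⁻¹) := by group
    rw [h5, ← hb, hebe, ← mul_assoc, hc b hbU a ha, mul_assoc, hsq b hbU, mul_one]
  -- the four elements
  have hall : ∀ v ∈ U, v = 1 ∨ v = a ∨ v = b ∨ v = a * b := by
    classical
    have := Fintype.ofFinite U
    intro v hv
    by_contra hcon
    push Not at hcon
    obtain ⟨c1, c2, c3, c4⟩ := hcon
    have hab1 : a * b ≠ 1 := fun h => hab (by
      have := eq_inv_of_mul_eq_one_left h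
      rw [inv_eq_of_mul_eq_one_right (hsq b hbU)] at this
      exact this)
    have hs : ({(⟨1, one_mem _⟩ : U), ⟨a, ha⟩, ⟨b, hbU⟩, ⟨a * b, mul_mem ha hbU⟩, ⟨v, hv⟩} :
        Finset U).card = 5 := by
      rw [Finset.card_insert_of_notMem, Finset.card_insert_of_notMem, Finset.card_insert_of_notMem,
        Finset.card_insert_of_notMem, Finset.card_singleton]
      · simp only [Finset.mem_singleton, Subtype.mk.injEq]
        exact fun h => c4 h.symm
      · simp only [Finset.mem_insert, Finset.mem_singleton, Subtype.mk.injEq, not_or]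
        exact ⟨fun h => ha1 (by
          have : 1 * b = a * b := by rw [one_mul]; exact h
          exact (mul_right_cancel this).symm), fun h => c3 h.symm⟩
      · simp only [Finset.mem_insert, Finset.mem_singleton, Subtype.mk.injEq, not_or]
        exact ⟨hab, fun h => hb1 (by
          have : a * 1 = a * b := by rw [mul_one]; exact h
          exact (mul_left_cancel this).symm), fun h => c2 h.symm⟩
      · simp only [Finset.mem_insert, Finset.mem_singleton, Subtype.mk.injEq, not_or]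
        exact ⟨fun h => ha1 h.symm, fun h => hb1 h.symm, fun h => hab1 h.symm, fun h => c1 h.symm⟩
    have h5 : Fintype.card U = 4 := by rw [← Nat.card_eq_fintype_card]; exact h4
    have h6 := Finset.card_le_univ ({(⟨1, one_mem _⟩ : U), ⟨a, ha⟩, ⟨b, hbU⟩,
      ⟨a * b, mul_mem ha hbU⟩, ⟨v, hv⟩} : Finset U)
    omega
  -- `y` moves `b`
  have hyb : y * b * y⁻¹ = a * b := by
    have h5 : y * b * y⁻¹ ∈ U := conj_mem hyn hbU
    rcases hall _ h5 with h | h | h | h
    · exfalso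
      apply hb1
      have : b = y⁻¹ * (y * b * y⁻¹) * y := by group
      rw [this, h]; group
    · exfalso
      apply hab
      have h6 : y * b * y⁻¹ = y * a * y⁻¹ := by rw [h, hya]
      exact (mul_left_cancel (mul_right_cancel h6)).symm
    · exfalso
      apply hy
      rw [zpowers_le]
      refine mem_centralizer_iff.mpr ?_
      intro v hv
      have hyv : y * v * y⁻¹ = v := by
        rcases hall v hv with rfl | rfl | rfl | rfl
        · group
        · exact hya
        · exact h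
        · have : y * (a * b) * y⁻¹ = (y * a * y⁻¹) * (y * b * y⁻¹) := by group
          rw [this, hya, h]
      calc v * y = y * v * y⁻¹ * y := by rw [hyv]
        _ = y * v := by group
    · exact h
  have hyab : y * (a * b) * y⁻¹ = b := by
    have : y * (a * b) * y⁻¹ = (y * a * y⁻¹) * (y * b * y⁻¹) := by group
    rw [this, hya, hyb, ← mul_assoc, hsq a ha, one_mul]
  -- inverses
  have key : ∀ v ∈ U, y * (e * (y⁻¹ * (e * v * e⁻¹) * y) * e⁻¹) * y⁻¹ = v := by
    intro v hv
    have ya : y⁻¹ * a * y = a := by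
      have : y⁻¹ * (y * a * y⁻¹) * y = a := by group
      rwa [hya] at this
    have yb : y⁻¹ * b * y = a * b := by
      have : y⁻¹ * (y * (a * b) * y⁻¹) * y = a * b := by group
      rwa [hyab] at this
    have yab : y⁻¹ * (a * b) * y = b := by
      have : y⁻¹ * (y * b * y⁻¹) * y = b := by group
      rwa [hyb] at this
    rcases hall v hv with rfl | rfl | rfl | rfl
    · group
    · rw [← hb, yb, heab, hya]
    · rw [hebe, yab, hebe, hyab]
    · rw [heab, ya, ← hb, hyb]
  have h7 := key v hv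
  calc (y * e⁻¹ * y⁻¹) * v * (y * e⁻¹ * y⁻¹)⁻¹
      = y * e⁻¹ * y⁻¹ * (y * (e * (y⁻¹ * (e * v * e⁻¹) * y) * e⁻¹) * y⁻¹) * (y * e⁻¹ * y⁻¹)⁻¹ := by
        rw [h7]
    _ = e * v * e⁻¹ := by group

/-- If `y ∈ ker W C` normalises all blocks and is nontrivial on `V l`, then `l` is good. -/
theorem wit_of_ker [Finite G] {l : ι} (h4 : Nat.card (V l) = 4) (hsq : ∀ u ∈ V l, u * u = 1)
    (hc : ∀ u ∈ V l, ∀ v ∈ V l, u * v = v * u) {e y : G} (heW : e ∈ normalizer (W : Set G))
    (heC : e ∈ normalizer (C : Set G)) (hen : e ∈ normalizer (V l : Set G)) (he : Three (V l) e)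
    (hecent : ∀ i, i ≠ l → ∀ v ∈ V i, e * v = v * e)
    (hyn : ∀ i, y ∈ normalizer (V i : Set G)) (hy2 : IsPGroup 2 (zpowers y))
    (hyk : y ∈ ker W C) (hy : ¬ zpowers y ≤ centralizer (V l : Set G)) :
    Wit W C V l (e * y * e⁻¹ * y⁻¹) where
  mem := mul_mem (conj_mem_ker heW heC hyk) (inv_mem hyk)
  cent := by
    intro i hi v hv
    have h1 : y⁻¹ * v * y ∈ V i := conj_mem' (hyn i) hv
    have h2 : e * v = v * e := hecent i hi v hv
    have h3 : e * (y⁻¹ * v * y) = (y⁻¹ * v * y) * e := hecent i hi _ h1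
    calc e * y * e⁻¹ * y⁻¹ * v = e * y * e⁻¹ * ((y⁻¹ * v * y) * e) * e⁻¹ * y⁻¹ := by group
      _ = e * y * e⁻¹ * (e * (y⁻¹ * v * y)) * e⁻¹ * y⁻¹ := by rw [h3]
      _ = (e * v) * (y * e⁻¹ * y⁻¹) := by group
      _ = (v * e) * (y * e⁻¹ * y⁻¹) := by rw [h2]
      _ = v * (e * y * e⁻¹ * y⁻¹) := by group
  nor := mul_mem (mul_mem (mul_mem hen (hyn l)) (inv_mem hen)) (inv_mem (hyn l))
  three := by
    have hact : ∀ v ∈ V l, (e * y * e⁻¹ * y⁻¹) * v * (e * y * e⁻¹ * y⁻¹)⁻¹ =
        e * (e * v * e⁻¹) * e⁻¹ := by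
      intro v hv
      have h1 := inverts h4 hsq hc hen he (hyn l) hy2 hy hv
      calc (e * y * e⁻¹ * y⁻¹) * v * (e * y * e⁻¹ * y⁻¹)⁻¹
          = e * ((y * e⁻¹ * y⁻¹) * v * (y * e⁻¹ * y⁻¹)⁻¹) * e⁻¹ := by group
        _ = e * (e * v * e⁻¹) * e⁻¹ := by rw [h1]
    intro v hv
    have m1 := conj_mem hen hv
    have m2 := conj_mem hen m1
    have c3 := cube_of_three hen he hc hv
    rw [hact v hv, hact _ m2, c3]
    have c4 := he v hv
    generalize e * (e * v * e⁻¹) * e⁻¹ = v2 at *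
    generalize e * v * e⁻¹ = v1 at *
    rw [mul_assoc, hc v2 m2 v1 m1, ← mul_assoc]
    exact c4

/-- The subgroup of `A` centralising the blocks in `B`. -/
def AB (A : Subgroup G) (V : ι → Subgroup G) (B : Finset ι) : Subgroup G :=
  A ⊓ centralizer {g : G | ∃ l ∈ B, g ∈ V l}

theorem mem_AB {B : Finset ι} {g : G} : g ∈ AB A V B ↔ g ∈ A ∧ ∀ l ∈ B, ∀ v ∈ V l, v * g = g * v := by
  constructor
  · rintro ⟨h1, h2⟩
    exact ⟨h1, fun l hl v hv => mem_centralizer_iff.mp h2 v ⟨l, hl, hv⟩⟩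
  · rintro ⟨h1, h2⟩
    refine ⟨h1, mem_centralizer_iff.mpr ?_⟩
    rintro v ⟨l, hl, hv⟩
    exact h2 l hl v hv

theorem two_pow_le_AB [Finite G] [DecidableEq ι] (B : Finset ι) {b : ι → G}
    (hbA : ∀ l ∈ B, b l ∈ A) (hbc : ∀ l ∈ B, ∀ i, i ≠ l → ∀ v ∈ V i, v * b l = b l * v)
    (hbn : ∀ l ∈ B, ∃ v ∈ V l, v * b l ≠ b l * v) :
    2 ^ B.card ≤ (AB A V B).relIndex A := by
  induction B using Finset.induction_on with
  | empty =>
    rw [Finset.card_empty, pow_zero]
    exact Nat.pos_of_ne_zero (rel_ne _ _)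
  | insert l B hl ih =>
    have h1 := ih (fun i hi => hbA i (Finset.mem_insert_of_mem hi))
      (fun i hi => hbc i (Finset.mem_insert_of_mem hi))
      (fun i hi => hbn i (Finset.mem_insert_of_mem hi))
    have hle : AB A V (insert l B) ≤ AB A V B := by
      intro g hg
      rw [mem_AB] at hg ⊢
      exact ⟨hg.1, fun i hi => hg.2 i (Finset.mem_insert_of_mem hi)⟩
    have hlA : AB A V B ≤ A := inf_le_left
    have h2 := relIndex_mul_relIndex _ _ _ hle hlA
    have hll := Finset.mem_insert_self l B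
    have h3 : (AB A V (insert l B)).relIndex (AB A V B) ≠ 1 := by
      intro h
      have h4 := relIndex_eq_one.mp h
      have h5 : b l ∈ AB A V B := by
        rw [mem_AB]
        exact ⟨hbA l hll, fun i hi v hv => hbc l hll i (fun e => hl (e ▸ hi)) v hv⟩
      obtain ⟨v, hv, hne⟩ := hbn l hll
      exact hne ((mem_AB.mp (h4 h5)).2 l hll v hv)
    have h4 := rel_ne (AB A V (insert l B)) (AB A V B)
    rw [Finset.card_insert_of_notMem hl, pow_succ, ← h2, mul_comm]
    exact Nat.mul_le_mul (by omega) h1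

/-- **`2 ^ #bad ≤ |A : A ∩ ker W C|`**. -/
theorem two_pow_bad_le [Finite G] [DecidableEq ι] (B : Finset ι) {b e : ι → G}
    (hA2 : IsPGroup 2 A) (hAn : ∀ i, A ≤ normalizer (V i : Set G))
    (h4 : ∀ l ∈ B, Nat.card (V l) = 4) (hsq : ∀ l ∈ B, ∀ u ∈ V l, u * u = 1)
    (hc : ∀ l ∈ B, ∀ u ∈ V l, ∀ v ∈ V l, u * v = v * u)
    (hbA : ∀ l ∈ B, b l ∈ A) (hbc : ∀ l ∈ B, ∀ i, i ≠ l → ∀ v ∈ V i, v * b l = b l * v)
    (hbn : ∀ l ∈ B, ∃ v ∈ V l, v * b l ≠ b l * v)
    (heW : ∀ l ∈ B, e l ∈ normalizer (W : Set G)) (heC : ∀ l ∈ B, e l ∈ normalizer (C : Set G))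
    (hen : ∀ l ∈ B, e l ∈ normalizer (V l : Set G)) (he : ∀ l ∈ B, Three (V l) (e l))
    (hec : ∀ l ∈ B, ∀ i, i ≠ l → ∀ v ∈ V i, e l * v = v * e l)
    (hbad : ∀ l ∈ B, ¬ ∃ x, Wit W C V l x) :
    2 ^ B.card ≤ (ker W C).relIndex A := by
  refine (two_pow_le_AB B hbA hbc hbn).trans ?_
  rw [← inf_relIndex_right (ker W C) A]
  refine relIndex_le_of_le_left ?_ (rel_ne _ _)
  rintro y ⟨hyk, hyA⟩
  rw [mem_AB]
  refine ⟨hyA, fun l hl v hv => ?_⟩
  by_contra hne
  apply hbad l hl
  refine ⟨_, wit_of_ker (h4 l hl) (hsq l hl) (hc l hl) (heW l hl) (heC l hl) (hen l hl) (he l hl)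
    (hec l hl) (fun i => hAn i hyA) (hA2.to_le (zpowers_le.mpr hyA)) hyk ?_⟩
  intro hle
  exact hne (mem_centralizer_iff.mp (hle (mem_zpowers y)) v hv)

/-! ### The action on the cosets -/

section Action

variable (W C A)

/-- The action of `g` on the cosets of `C` in `W`. -/
def cosetMap (hAW : A ≤ normalizer (W : Set G)) (hAC : A ≤ normalizer (C : Set G)) (g : A) :
    W ⧸ C.subgroupOf W → W ⧸ C.subgroupOf W :=
  Quotient.map' (fun w => (⟨(g : G) * w * (g : G)⁻¹, conj_mem (hAW g.2) w.2⟩ : W)) (by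
    intro a b hab
    rw [QuotientGroup.leftRel_apply, mem_subgroupOf] at hab ⊢
    have h1 : (((⟨(g : G) * a * (g : G)⁻¹, conj_mem (hAW g.2) a.2⟩ : W)⁻¹ *
        ⟨(g : G) * b * (g : G)⁻¹, conj_mem (hAW g.2) b.2⟩ : W) : G) =
        (g : G) * ((a⁻¹ * b : W) : G) * (g : G)⁻¹ := by
      push_cast
      group
    rw [h1]
    exact conj_mem (hAC g.2) hab)

/-- The action of `A` on the cosets of `C` in `W`. -/
@[instance_reducible]
def cosetAction (hAW : A ≤ normalizer (W : Set G)) (hAC : A ≤ normalizer (C : Set G)) :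
    MulAction A (W ⧸ C.subgroupOf W) where
  smul g := cosetMap W C A hAW hAC g
  one_smul := by
    rintro ⟨w⟩
    change Quotient.mk'' _ = Quotient.mk'' _
    congr 1
    ext
    simp
  mul_smul := by
    rintro g h ⟨w⟩
    change Quotient.mk'' _ = Quotient.mk'' _
    congr 1
    ext
    simp [mul_assoc]

end Action

theorem card_stab_perm {X : Type*} [Finite X] (x : X) :
    Nat.card (MulAction.stabilizer (Equiv.Perm X) x) = (Nat.card X - 1).factorial := by
  classical
  have := Fintype.ofFinite X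
  have h2 := MulAction.card_orbit_mul_card_stabilizer_eq_card_group (Equiv.Perm X) x
  have h3 : Fintype.card (MulAction.orbit (Equiv.Perm X) x) = Fintype.card X := by
    refine Fintype.card_congr ((Equiv.setCongr ?_).trans (Equiv.Set.univ X))
    rw [Set.eq_univ_iff_forall]
    intro y
    exact ⟨Equiv.swap x y, Equiv.swap_apply_left x y⟩
  have h4 : 0 < Fintype.card X := Fintype.card_pos_iff.mpr ⟨x⟩
  rw [h3, Fintype.card_perm] at h2
  obtain ⟨n, hn⟩ := Nat.exists_eq_succ_of_ne_zero h4.ne'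
  rw [hn, Nat.factorial_succ] at h2
  rw [Nat.card_eq_fintype_card, Nat.card_eq_fintype_card, hn, Nat.succ_sub_one]
  exact Nat.eq_of_mul_eq_mul_left (Nat.succ_pos n) h2

theorem relIndex_ker_dvd [Finite G] (hAW : A ≤ normalizer (W : Set G))
    (hAC : A ≤ normalizer (C : Set G)) :
    (ker W C).relIndex A ∣ (C.relIndex W - 1).factorial := by
  classical
  let _ := cosetAction W C A hAW hAC
  have hsm : ∀ (g : A) (w : W), g • (QuotientGroup.mk w : W ⧸ C.subgroupOf W) =
      QuotientGroup.mk (⟨(g : G) * w * (g : G)⁻¹, conj_mem (hAW g.2) w.2⟩ : W) := fun _ _ => rfl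
  let φ := MulAction.toPermHom A (W ⧸ C.subgroupOf W)
  have hker : φ.ker = (ker W C).subgroupOf A := by
    ext g
    rw [MonoidHom.mem_ker, mem_subgroupOf, mem_ker]
    constructor
    · intro hg
      refine ⟨hAW g.2, hAC g.2, fun w hw => ?_⟩
      have h1 : g • (QuotientGroup.mk (⟨w, hw⟩ : W) : W ⧸ C.subgroupOf W) =
          QuotientGroup.mk (⟨w, hw⟩ : W) :=
        congrArg (fun p : Equiv.Perm (W ⧸ C.subgroupOf W) => p (QuotientGroup.mk (⟨w, hw⟩ : W))) hg
      rw [hsm] at h1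
      have h2 := QuotientGroup.eq.mp h1.symm
      rw [mem_subgroupOf] at h2
      exact h2
    · rintro ⟨-, -, h⟩
      ext x
      obtain ⟨w, rfl⟩ := QuotientGroup.mk_surjective x
      change g • (QuotientGroup.mk w : W ⧸ C.subgroupOf W) = QuotientGroup.mk w
      rw [hsm]
      refine (QuotientGroup.eq.mpr ?_).symm
      rw [mem_subgroupOf]
      exact h w w.2
  have hrange : φ.range ≤
      MulAction.stabilizer (Equiv.Perm (W ⧸ C.subgroupOf W))
        (QuotientGroup.mk (1 : W) : W ⧸ C.subgroupOf W) := by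
    rintro _ ⟨g, rfl⟩
    rw [MulAction.mem_stabilizer_iff]
    change g • (QuotientGroup.mk (1 : W) : W ⧸ C.subgroupOf W) = QuotientGroup.mk 1
    rw [hsm]
    congr 1
    ext
    simp
  have h1 : (ker W C).relIndex A = Nat.card φ.range := by
    rw [relIndex, ← hker, index_ker]
  rw [h1]
  refine (card_dvd_of_le hrange).trans ?_
  rw [card_stab_perm]
  rfl

/-- everything normalising `W` and `C` is trivial on the cosets if `|W : C| ≤ 2`. -/
theorem mem_ker_of_le_two [Finite G] {g : G} (hW : g ∈ normalizer (W : Set G))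
    (hC : g ∈ normalizer (C : Set G)) (h2 : C.relIndex W ≤ 2) : g ∈ ker W C := by
  refine ⟨hW, hC, fun w hw => ?_⟩
  by_cases hwC : w ∈ C
  · exact mul_mem (inv_mem hwC) (conj_mem hC hwC)
  have h1 : C.relIndex W = 2 := by
    have h3 : C.relIndex W ≠ 0 := rel_ne _ _
    have h4 : C.relIndex W ≠ 1 := fun h => hwC (relIndex_eq_one.mp h hw)
    omega
  have hgw : g * w * g⁻¹ ∈ W := conj_mem hW hw
  have hgwC : g * w * g⁻¹ ∉ C := fun h => hwC (by
    have := conj_mem' hC h
    have e : g⁻¹ * (g * w * g⁻¹) * g = w := by group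
    rwa [e] at this)
  have h5 : (C.subgroupOf W).index = 2 := h1
  have h6 := mul_mem_iff_of_index_two h5 (a := (⟨w, hw⟩ : W)⁻¹) (b := ⟨g * w * g⁻¹, hgw⟩)
  rw [inv_mem_iff] at h6
  have h7 := h6.mpr (iff_of_false (fun h => hwC (mem_subgroupOf.mp h))
    (fun h => hgwC (mem_subgroupOf.mp h)))
  exact mem_subgroupOf.mp h7

end Cfsg.Agent.Omega.IITwo.Count
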