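import Cfsg.Agent.Omega.Half.Basic

/-!
# Several factors (project OMEGA, II.d2 = (L3); helper610, bb OMEGA 12663, with the K-trick of bb OMEGA 13507)

A mutual pair `V₁ = ∏ V₁ˡ`, `V₂ = ∏ V₂ˡ` with `[V₁ˡ, V₂ˡ] = Z_l` for `l ∈ I`, `|I| ≥ 2`.  Everything takes place
in `H = C_G(z)`, `z ∈ Z_1`, `W = O₂(H)`, `C_H(W) ≤ W`, `C_a = W ∩ P_a`.
-/

set_option autoImplicit false

namespace Cfsg.Agent.Omega.IITwo.Full

open Subgroup Cfsg

universe u

variable {G : Type u} [Group G]

/-! ### (★): a 2-subgroup of `P` normalised by `E l` centralises `V l` -/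

/-- One side: blocks `V l` with groups `E l`, permuted by `P`. -/
structure Side {ι : Type*} (P : Subgroup G) (V E : ι → Subgroup G) : Prop where
  two : ∀ l, IsPGroup 2 (V l)
  EP : ∀ l, E l ≤ P
  VE : ∀ l, V l ≤ E l
  nor : ∀ l, E l ≤ normalizer (V l : Set G)
  cent : ∀ i l, i ≠ l → E l ≤ centralizer (V i : Set G)
  irr : ∀ l (X : Subgroup G), X ≤ V l → E l ≤ normalizer (X : Set G) → X = ⊥ ∨ X = V l
  nt : ∀ l, V l ⊓ centralizer (E l : Set G) = ⊥
  ne : ∀ l, V l ≠ ⊥
  perm : ∀ g ∈ P, ∀ l, ∃ m, (V l).map (MulAut.conj g).toMonoidHom = V m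

theorem inf_centralizer_invariant {K U D : Subgroup G} (hU : K ≤ normalizer (U : Set G))
    (hD : K ≤ normalizer (D : Set G)) :
    K ≤ normalizer ((U ⊓ centralizer (D : Set G) : Subgroup G) : Set G) := by
  have key : ∀ g ∈ K, ∀ x ∈ U ⊓ centralizer (D : Set G), g * x * g⁻¹ ∈ U ⊓ centralizer (D : Set G) := by
    rintro g hg x ⟨hx1, hx2⟩
    refine ⟨(mem_normalizer_iff.mp (hU hg) x).mp hx1, ?_⟩
    refine mem_centralizer_iff.mpr ?_
    intro d hd
    have h1 : g⁻¹ * d * g ∈ D := by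
      have := (mem_normalizer_iff.mp (hD (K.inv_mem hg)) d).mp hd
      simpa using this
    have h2 : g⁻¹ * d * g * x = x * (g⁻¹ * d * g) := mem_centralizer_iff.mp hx2 _ h1
    calc d * (g * x * g⁻¹) = g * (g⁻¹ * d * g * x) * g⁻¹ := by group
      _ = g * (x * (g⁻¹ * d * g)) * g⁻¹ := by rw [h2]
      _ = g * x * g⁻¹ * d := by group
  intro g hg
  rw [mem_normalizer_iff]
  intro x
  refine ⟨key g hg x, fun h => ?_⟩
  have := key g⁻¹ (inv_mem hg) _ h
  simpa [mul_assoc] using this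

theorem Side.star [Finite G] {ι : Type*} {P : Subgroup G} {V E : ι → Subgroup G} (h : Side P V E)
    {C : Subgroup G} (hC : IsPGroup 2 C) (hCP : C ≤ P) {l : ι}
    (hE : E l ≤ normalizer (C : Set G)) : C ≤ centralizer (V l : Set G) := by
  -- `C` normalises `V l`
  have hnor : C ≤ normalizer (V l : Set G) := by
    intro c hc
    obtain ⟨m, hm⟩ := h.perm c (hCP hc) l
    by_cases hml : m = l
    · subst hml
      rw [mem_normalizer_iff]
      intro x
      constructor
      · intro hx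
        have : (MulAut.conj c).toMonoidHom x ∈ (V m).map (MulAut.conj c).toMonoidHom :=
          mem_map_of_mem _ hx
        rw [hm] at this
        simpa using this
      · intro hx
        have : c * x * c⁻¹ ∈ (V m).map (MulAut.conj c).toMonoidHom := by rw [hm]; exact hx
        obtain ⟨y, hy, hxy⟩ := this
        have h2 : c * y * c⁻¹ = c * x * c⁻¹ := by simpa using hxy
        have h3 : y = x := by
          have := mul_right_cancel h2
          exact mul_left_cancel this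
        exact h3 ▸ hy
    · exfalso
      -- `C ⊓ N(V l)` induces all of `E l` on `V l`
      have key : ∀ e ∈ E l, ∃ y ∈ C ⊓ normalizer (V l : Set G), ∀ v ∈ V l,
          y * v * y⁻¹ = e * v * e⁻¹ := by
        intro e he
        have h1 : ∀ v ∈ V l, (c⁻¹ * e⁻¹ * c) * v * (c⁻¹ * e⁻¹ * c)⁻¹ = v := by
          intro v hv
          have h2 : c * v * c⁻¹ ∈ V m := by
            rw [← hm]
            exact ⟨v, hv, by simp⟩
          have h3 : (c * v * c⁻¹) * e = e * (c * v * c⁻¹) :=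
            mem_centralizer_iff.mp (h.cent m l hml he) _ h2
          calc (c⁻¹ * e⁻¹ * c) * v * (c⁻¹ * e⁻¹ * c)⁻¹
              = c⁻¹ * e⁻¹ * ((c * v * c⁻¹) * e) * c := by group
            _ = c⁻¹ * e⁻¹ * (e * (c * v * c⁻¹)) * c := by rw [h3]
            _ = v := by group
        have h4 : e * (c⁻¹ * e⁻¹ * c) ∈ C := by
          have h5 : e * c⁻¹ * e⁻¹ ∈ C := (mem_normalizer_iff.mp (hE he) _).mp (C.inv_mem hc)
          have : e * (c⁻¹ * e⁻¹ * c) = e * c⁻¹ * e⁻¹ * c := by group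
          rw [this]
          exact C.mul_mem h5 hc
        have h6 : ∀ v ∈ V l, (e * (c⁻¹ * e⁻¹ * c)) * v * (e * (c⁻¹ * e⁻¹ * c))⁻¹ = e * v * e⁻¹ := by
          intro v hv
          calc (e * (c⁻¹ * e⁻¹ * c)) * v * (e * (c⁻¹ * e⁻¹ * c))⁻¹
              = e * ((c⁻¹ * e⁻¹ * c) * v * (c⁻¹ * e⁻¹ * c)⁻¹) * e⁻¹ := by group
            _ = e * v * e⁻¹ := by rw [h1 v hv]
        refine ⟨e * (c⁻¹ * e⁻¹ * c), ⟨h4, ?_⟩, h6⟩
        have h7 : c⁻¹ * e⁻¹ * c ∈ normalizer (V l : Set G) := by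
          rw [mem_normalizer_iff]
          intro x
          constructor
          · intro hx
            rw [h1 x hx]; exact hx
          · intro hx
            have h8 := h1 _ hx
            have h9 : (c⁻¹ * e⁻¹ * c) * x * (c⁻¹ * e⁻¹ * c)⁻¹ = x := by
              have := mul_right_cancel (h8.trans (by rfl))
              have h10 : (c⁻¹ * e⁻¹ * c) * ((c⁻¹ * e⁻¹ * c) * x * (c⁻¹ * e⁻¹ * c)⁻¹) *
                  (c⁻¹ * e⁻¹ * c)⁻¹ = (c⁻¹ * e⁻¹ * c) * x * (c⁻¹ * e⁻¹ * c)⁻¹ := h8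
              have h11 := mul_left_cancel (mul_right_cancel h10)
              exact h11
            rw [h9] at hx
            exact hx
        exact (normalizer (V l : Set G)).mul_mem (h.nor l he) h7
      obtain ⟨v, hv, hv1, hfix⟩ := Half.exists_fixed (h.two l) (h.ne l)
        (T := C ⊓ normalizer (V l : Set G)) (hC.to_le inf_le_left) inf_le_right
      apply hv1
      have : v ∈ V l ⊓ centralizer (E l : Set G) := by
        refine ⟨hv, mem_centralizer_iff.mpr ?_⟩
        intro e he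
        obtain ⟨y, hy, hyv⟩ := key e he
        have h1 := hfix y hy
        rw [hyv v hv] at h1
        calc e * v = e * v * e⁻¹ * e := by group
          _ = v * e := by rw [h1]
      rw [h.nt l] at this
      exact mem_bot.mp this
  -- fixed points
  obtain ⟨v, hv, hv1, hfix⟩ := Half.exists_fixed (h.two l) (h.ne l) hC hnor
  rcases h.irr l (V l ⊓ centralizer (C : Set G)) inf_le_left
    (inf_centralizer_invariant (h.nor l) hE) with h1 | h1
  · exfalso
    apply hv1
    have : v ∈ V l ⊓ centralizer (C : Set G) := by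
      refine ⟨hv, mem_centralizer_iff.mpr ?_⟩
      intro c hc
      have := hfix c hc
      calc c * v = c * v * c⁻¹ * c := by group
        _ = v * c := by rw [this]
    rw [h1] at this
    exact mem_bot.mp this
  · rw [le_centralizer_iff]
    rw [← h1]
    exact inf_le_right

/-! ### The commutator argument -/

/-- `w` normalises `K`, `U` and `U'` centralise `K` and `[w, U], [w, U'] ≤ K`: then `[U, U']` centralises `w`. -/
theorem commute_of_cent {K : Subgroup G} {u u' w : G} (hu : u ∈ centralizer (K : Set G))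
    (hu' : u' ∈ centralizer (K : Set G)) (hw : w ∈ normalizer (K : Set G))
    (h1 : w⁻¹ * (u * w * u⁻¹) ∈ K) (h2 : w⁻¹ * (u' * w * u'⁻¹) ∈ K) :
    (u * u' * u⁻¹ * u'⁻¹) * w = w * (u * u' * u⁻¹ * u'⁻¹) := by
  set c := w⁻¹ * (u * w * u⁻¹) with hc
  set c' := w⁻¹ * (u' * w * u'⁻¹) with hc'
  have e1 : u * w * u⁻¹ = w * c := by rw [hc]; group
  have e2 : u' * w * u'⁻¹ = w * c' := by rw [hc']; group
  have cen : ∀ k ∈ K, k * c = c * k := by
    intro k hk
    have h3 : w * k * w⁻¹ ∈ K := (mem_normalizer_iff.mp hw k).mp hk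
    have h4 : (w * k * w⁻¹) * u = u * (w * k * w⁻¹) := mem_centralizer_iff.mp hu _ h3
    have h5 : k * u = u * k := mem_centralizer_iff.mp hu _ hk
    have h6 : (w * c) * k * (w * c)⁻¹ = w * k * w⁻¹ := by
      rw [← e1]
      calc u * w * u⁻¹ * k * (u * w * u⁻¹)⁻¹ = u * w * (u⁻¹ * (k * u)) * w⁻¹ * u⁻¹ := by group
        _ = u * w * (u⁻¹ * (u * k)) * w⁻¹ * u⁻¹ := by rw [h5]
        _ = (u * (w * k * w⁻¹)) * u⁻¹ := by group
        _ = ((w * k * w⁻¹) * u) * u⁻¹ := by rw [h4]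
        _ = w * k * w⁻¹ := by group
    have h7 : c * k * c⁻¹ = k := by
      have h8 : w * (c * k * c⁻¹) * w⁻¹ = w * k * w⁻¹ := by
        rw [← h6]; group
      exact mul_left_cancel (mul_right_cancel h8)
    calc k * c = c * k * c⁻¹ * c := by rw [h7]
      _ = c * k := by group
  have h9 : c' * c = c * c' := cen c' h2
  have h10 : c' * u = u * c' := mem_centralizer_iff.mp hu _ h2
  have h11 : c * u' = u' * c := mem_centralizer_iff.mp hu' _ h1
  have h12 : (u * u') * w * (u * u')⁻¹ = w * c * c' := by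
    calc (u * u') * w * (u * u')⁻¹ = u * (u' * w * u'⁻¹) * u⁻¹ := by group
      _ = u * (w * c') * u⁻¹ := by rw [e2]
      _ = (u * w * u⁻¹) * (u * c') * u⁻¹ := by group
      _ = (u * w * u⁻¹) * (c' * u) * u⁻¹ := by rw [h10]
      _ = (u * w * u⁻¹) * c' := by group
      _ = w * c * c' := by rw [e1]
  have h13 : (u' * u) * w * (u' * u)⁻¹ = w * c' * c := by
    calc (u' * u) * w * (u' * u)⁻¹ = u' * (u * w * u⁻¹) * u'⁻¹ := by group
      _ = u' * (w * c) * u'⁻¹ := by rw [e1]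
      _ = (u' * w * u'⁻¹) * (u' * c) * u'⁻¹ := by group
      _ = (u' * w * u'⁻¹) * (c * u') * u'⁻¹ := by rw [h11]
      _ = (u' * w * u'⁻¹) * c := by group
      _ = w * c' * c := by rw [e2]
  have h14 : (u * u') * w * (u * u')⁻¹ = (u' * u) * w * (u' * u)⁻¹ := by
    rw [h12, h13]
    calc w * c * c' = w * (c * c') := mul_assoc _ _ _
      _ = w * (c' * c) := by rw [h9]
      _ = w * c' * c := (mul_assoc _ _ _).symm
  have h15 : (u * u') * w * (u * u')⁻¹ * (u' * u) = (u' * u) * w := by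
    rw [h14]; group
  -- `[u, u'] w = w [u, u']` with `u u' = [u, u'] u' u`
  have h16 : (u * u' * u⁻¹ * u'⁻¹) * ((u' * u) * w * (u' * u)⁻¹) =
      ((u * u') * w * (u * u')⁻¹) * (u * u' * u⁻¹ * u'⁻¹) := by group
  rw [h14, h13] at h16
  -- so `[u, u']` commutes with `w c' c`; it also commutes with `c' c ∈ K`
  have h17 : (u * u' * u⁻¹ * u'⁻¹) * (c' * c) = (c' * c) * (u * u' * u⁻¹ * u'⁻¹) := by
    have hK : c' * c ∈ K := K.mul_mem h2 h1
    have hm : (u * u' * u⁻¹ * u'⁻¹) ∈ centralizer (K : Set G) :=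
      mul_mem (mul_mem (mul_mem hu hu') (inv_mem hu)) (inv_mem hu')
    exact (mem_centralizer_iff.mp hm _ hK).symm
  have h18 : (u * u' * u⁻¹ * u'⁻¹) * w * (c' * c) = w * (u * u' * u⁻¹ * u'⁻¹) * (c' * c) := by
    calc (u * u' * u⁻¹ * u'⁻¹) * w * (c' * c) = (u * u' * u⁻¹ * u'⁻¹) * (w * c' * c) := by group
      _ = (w * c' * c) * (u * u' * u⁻¹ * u'⁻¹) := h16
      _ = w * ((c' * c) * (u * u' * u⁻¹ * u'⁻¹)) := by group
      _ = w * ((u * u' * u⁻¹ * u'⁻¹) * (c' * c)) := by rw [h17]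
      _ = w * (u * u' * u⁻¹ * u'⁻¹) * (c' * c) := by group
  exact mul_right_cancel h18

/-- The normaliser condition for a 2-group `W`. -/
theorem eq_of_normalizer_le [Finite G] {W D : Subgroup G} (hW : IsPGroup 2 W) (hDW : D ≤ W)
    (h : ∀ w ∈ W, w ∈ normalizer (D : Set G) → w ∈ D) : D = W := by
  have : Fact (Nat.Prime 2) := ⟨Nat.prime_two⟩
  have := hW.isNilpotent
  by_contra hne
  have h1 : D.subgroupOf W ≠ ⊤ := by
    intro h2
    apply hne
    refine le_antisymm hDW ?_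
    rwa [subgroupOf_eq_top] at h2
  have h2 : D.subgroupOf W < normalizer ((D.subgroupOf W : Subgroup W) : Set W) :=
    Group.normalizerCondition_of_isNilpotent (G := W) _ (lt_top_iff_ne_top.mpr h1)
  obtain ⟨w, hw1, hw2⟩ := SetLike.exists_of_lt h2
  apply hw2
  rw [mem_subgroupOf]
  refine h w w.2 ?_
  rw [mem_normalizer_iff] at hw1 ⊢
  intro x
  constructor
  · intro hx
    have := (hw1 ⟨x, hDW hx⟩).mp (by rw [mem_subgroupOf]; exact hx)
    rw [mem_subgroupOf] at this
    simpa using this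
  · intro hx
    have hxW : x ∈ W := by
      have h3 := hDW hx
      have : x = (w : G)⁻¹ * (w * x * (w : G)⁻¹) * w := by group
      rw [this]
      exact W.mul_mem (W.mul_mem (W.inv_mem w.2) h3) w.2
    have := (hw1 ⟨x, hxW⟩).mpr (by rw [mem_subgroupOf]; simpa using hx)
    rw [mem_subgroupOf] at this
    simpa using this

/-! ### Groups acting trivially on the coset space `W / C` -/

/-- `K` acts trivially on the cosets of `C` in `W`. -/
def Triv (W C K : Subgroup G) : Prop := ∀ g ∈ K, ∀ w ∈ W, w⁻¹ * (g * w * g⁻¹) ∈ C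

theorem Triv.mono {W C C' K K' : Subgroup G} (h : Triv W C K) (hC : C ≤ C') (hK : K' ≤ K) :
    Triv W C' K' := fun g hg w hw => hC (h g (hK hg) w hw)

/-- A union `D ≥ C` of cosets is invariant. -/
theorem Triv.le_normalizer {W C K D : Subgroup G} (h : Triv W C K) (hCD : C ≤ D) (hDW : D ≤ W) :
    K ≤ normalizer (D : Set G) := by
  have key : ∀ g ∈ K, ∀ d ∈ D, g * d * g⁻¹ ∈ D := by
    intro g hg d hd
    have h1 := hCD (h g hg d (hDW hd))
    have : g * d * g⁻¹ = d * (d⁻¹ * (g * d * g⁻¹)) := by group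
    rw [this]
    exact D.mul_mem hd h1
  intro g hg
  rw [mem_normalizer_iff]
  intro x
  refine ⟨key g hg x, fun h => ?_⟩
  have := key g⁻¹ (K.inv_mem hg) _ h
  simpa [mul_assoc] using this

/-- `Z ≤ U` generates `U` under `K`. -/
def Gen (Z U K : Subgroup G) : Prop :=
  ∀ X : Subgroup G, Z ≤ X → X ≤ U → K ≤ normalizer (X : Set G) → X = U

/-- The centraliser `D` of `Z` in `W` is centralised by `U = ⟨Z^K⟩`. -/
theorem le_centralizer_of_triv {W C K Z U : Subgroup G} (hCW : C ≤ W) (hT : Triv W C K)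
    (hCU : C ≤ centralizer (U : Set G)) (hZU : Z ≤ U) (hKU : K ≤ normalizer (U : Set G))
    (hG : Gen Z U K) : U ≤ centralizer ((W ⊓ centralizer (Z : Set G) : Subgroup G) : Set G) := by
  have h1 : C ≤ W ⊓ centralizer (Z : Set G) := le_inf hCW (hCU.trans (centralizer_le hZU))
  have h2 := hT.le_normalizer h1 inf_le_left
  have h3 : U ⊓ centralizer ((W ⊓ centralizer (Z : Set G) : Subgroup G) : Set G) = U := by
    refine hG _ (le_inf hZU ?_) inf_le_left (inf_centralizer_invariant hKU h2)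
    rw [le_centralizer_iff]
    exact inf_le_right
  rw [← h3]
  exact inf_le_right

/-- **(2')** of (L3): two sides with `K_a` trivial on `W/C_a`, `U_a = ⟨Z^{K_a}⟩ ≤ K_a`, `Z ≤ [U₁, U₂]`:
`Z` centralises `W`. -/
theorem le_centralizer_of_two [Finite G] {W C K U C' K' U' Z : Subgroup G} (hW : IsPGroup 2 W)
    (hCW : C ≤ W) (hT : Triv W C K) (hCU : C ≤ centralizer (U : Set G)) (hZU : Z ≤ U)
    (hUK : U ≤ K) (hKU : K ≤ normalizer (U : Set G)) (hG : Gen Z U K)
    (hCW' : C' ≤ W) (hT' : Triv W C' K') (hCU' : C' ≤ centralizer (U' : Set G)) (hZU' : Z ≤ U')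
    (hUK' : U' ≤ K') (hKU' : K' ≤ normalizer (U' : Set G)) (hG' : Gen Z U' K')
    (hZ : Z ≤ ⁅U, U'⁆) : W ≤ centralizer (Z : Set G) := by
  set D : Subgroup G := W ⊓ centralizer (Z : Set G) with hD
  have c1 : U ≤ centralizer (D : Set G) := le_centralizer_of_triv hCW hT hCU hZU hKU hG
  have c2 : U' ≤ centralizer (D : Set G) := le_centralizer_of_triv hCW' hT' hCU' hZU' hKU' hG'
  have h1 : C ≤ D := le_inf hCW (hCU.trans (centralizer_le hZU))
  have h2 : C' ≤ D := le_inf hCW' (hCU'.trans (centralizer_le hZU'))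
  have h3 : D = W := by
    refine eq_of_normalizer_le hW inf_le_left ?_
    intro w hw hwD
    refine ⟨hw, ?_⟩
    have h4 : ⁅U, U'⁆ ≤ centralizer ({w} : Set G) := by
      rw [commutator_le]
      intro u hu u' hu'
      rw [mem_centralizer_iff]
      intro y hy
      rw [Set.mem_singleton_iff.mp hy, commutatorElement_def]
      exact (commute_of_cent (c1 hu) (c2 hu') hwD (h1 (hT u (hUK hu) w hw))
        (h2 (hT' u' (hUK' hu') w hw))).symm
    refine mem_centralizer_iff.mpr ?_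
    intro z hz
    exact (mem_centralizer_iff.mp (h4 (hZ hz)) w rfl).symm
  rw [← h3]
  exact inf_le_right

/-- `V ≤ K` if `K` is normalised by `V`, irreducible and nontrivial on `V`. -/
theorem le_of_irr {V K : Subgroup G} (hVK : V ≤ normalizer (K : Set G))
    (hKV : K ≤ normalizer (V : Set G))
    (hirr : ∀ X : Subgroup G, X ≤ V → K ≤ normalizer (X : Set G) → X = ⊥ ∨ X = V)
    (hne : ¬ K ≤ centralizer (V : Set G)) : V ≤ K := by
  have h1 : K ≤ normalizer ((V ⊓ K : Subgroup G) : Set G) :=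
    Half.le_normalizer_inf hKV le_normalizer
  rcases hirr (V ⊓ K) inf_le_left h1 with h2 | h2
  · exfalso
    apply hne
    intro k hk
    refine mem_centralizer_iff.mpr ?_
    intro v hv
    have h3 : v * k * v⁻¹ * k⁻¹ ∈ V ⊓ K := by
      refine ⟨?_, ?_⟩
      · have h4 : k * v⁻¹ * k⁻¹ ∈ V := (mem_normalizer_iff.mp (hKV hk) _).mp (V.inv_mem hv)
        have : v * k * v⁻¹ * k⁻¹ = v * (k * v⁻¹ * k⁻¹) := by group
        rw [this]
        exact V.mul_mem hv h4
      · exact K.mul_mem ((mem_normalizer_iff.mp (hVK hv) _).mp hk) (K.inv_mem hk)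
    rw [h2, mem_bot] at h3
    calc v * k = v * k * v⁻¹ * k⁻¹ * (k * v) := by group
      _ = k * v := by rw [h3, one_mul]
  · rw [← h2]
    exact inf_le_right

/-- **(1)** of (L3): `U ∩ W = 1`.  (`C' ≤ W`-part of the second side is not used.) -/
theorem inf_eq_bot {W P U U' Z E E' : Subgroup G}
    (hirr : ∀ X : Subgroup G, X ≤ U → E ≤ normalizer (X : Set G) → X = ⊥ ∨ X = U)
    (hEU : E ≤ normalizer (U : Set G)) (hEW : E ≤ normalizer (W : Set G))
    (hEW' : E' ≤ normalizer (W : Set G)) (hEU' : E' ≤ normalizer (U' : Set G)) (hG' : Gen Z U' E')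
    (hZU : Z ≤ U) (hZU' : Z ≤ U') (hU'P : U' ≤ P) (hstar : W ⊓ P ≤ centralizer (U : Set G))
    (hZ : Z ≤ ⁅U, U'⁆) (hZ1 : Z ≠ ⊥) : U ⊓ W = ⊥ := by
  rcases hirr (U ⊓ W) inf_le_left (Half.le_normalizer_inf hEU hEW) with h | h
  · exact h
  · exfalso
    apply hZ1
    have h1 : U ≤ W := by rw [← h]; exact inf_le_right
    have h2 : U' ⊓ W = U' :=
      hG' _ (le_inf hZU' (hZU.trans h1)) inf_le_left (Half.le_normalizer_inf hEU' hEW')
    have h3 : U' ≤ centralizer (U : Set G) := by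
      refine le_trans (le_inf ?_ hU'P) hstar
      rw [← h2]
      exact inf_le_right
    have h4 : ⁅U, U'⁆ = ⊥ := by
      rw [commutator_eq_bot_iff_le_centralizer, le_centralizer_iff]
      exact h3
    rw [h4] at hZ
    exact le_bot_iff.mp hZ

/-- Irreducible and `Z ≠ 1` in `U`: `Z` generates `U`. -/
theorem gen_of_irr {Z U K : Subgroup G}
    (hirr : ∀ X : Subgroup G, X ≤ U → K ≤ normalizer (X : Set G) → X = ⊥ ∨ X = U)
    (hZ1 : Z ≠ ⊥) : Gen Z U K := by
  intro X hZX hXU hX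
  rcases hirr X hXU hX with h | h
  · subst h
    exact absurd (le_bot_iff.mp hZX) hZ1
  · exact h

/-! ### The pair theorem -/

/-- One half of the data at `j ∈ I`, `j ≠ 1`, inside `H` (with `W = O₂(H)`): `P` the parabolic, `E` the group of
the block `U`, `K ⊴` a subgroup of `H ∩ P` acting trivially on `W/(W ∩ P)` and irreducibly on `U`. -/
structure Half1 (W H P E K U : Subgroup G) : Prop where
  EH : E ≤ H
  EU : E ≤ normalizer (U : Set G)
  irrE : ∀ X : Subgroup G, X ≤ U → E ≤ normalizer (X : Set G) → X = ⊥ ∨ X = U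
  KU : K ≤ normalizer (U : Set G)
  UK : U ≤ K
  irrK : ∀ X : Subgroup G, X ≤ U → K ≤ normalizer (X : Set G) → X = ⊥ ∨ X = U
  triv : Triv W (W ⊓ P) K
  star : W ⊓ P ≤ centralizer (U : Set G)

/-- **THEOREM B of (L3), K-form**: no mutual pair whose `j`-th blocks are both seen by the kernels `K₁`, `K₂`. -/
theorem false_of_halves [Finite G] {H W Z P1 E1 K1 U1 P2 E2 K2 U2 : Subgroup G}
    (hW : IsPGroup 2 W) (hHW : H ≤ normalizer (W : Set G)) (hc : H ⊓ centralizer (W : Set G) ≤ W)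
    (h1 : Half1 W H P1 E1 K1 U1) (h2 : Half1 W H P2 E2 K2 U2) (hUP : U2 ≤ P1)
    (hZH : Z ≤ H) (hZ1 : Z ≤ U1) (hZ2 : Z ≤ U2) (hZne : Z ≠ ⊥) (hZ : Z ≤ ⁅U1, U2⁆) : False := by
  have hb : U1 ⊓ W = ⊥ := inf_eq_bot h1.irrE h1.EU (h1.EH.trans hHW) (h2.EH.trans hHW) h2.EU
    (gen_of_irr h2.irrE hZne) hZ1 hZ2 hUP h1.star hZ hZne
  have h3 : W ≤ centralizer (Z : Set G) :=
    le_centralizer_of_two hW inf_le_left h1.triv h1.star hZ1 h1.UK h1.KU (gen_of_irr h1.irrK hZne)
      inf_le_left h2.triv h2.star hZ2 h2.UK h2.KU (gen_of_irr h2.irrK hZne) hZ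
  have h4 : Z ≤ W := le_trans (le_inf hZH (le_centralizer_iff.mp h3)) hc
  have h5 : Z ≤ U1 ⊓ W := le_inf hZ1 h4
  rw [hb] at h5
  exact hZne (le_bot_iff.mp h5)

/-! ### THEOREM A -/

/-- An index-2 subgroup is centralised: the action is through an abelian group. -/
theorem commute_of_index_two {W C : Subgroup G} {u u' w : G} (hu : u ∈ centralizer (C : Set G))
    (hu' : u' ∈ centralizer (C : Set G)) (hwC : w ∈ normalizer (C : Set G))
    (huW : u * w * u⁻¹ ∈ W) (hu'W : u' * w * u'⁻¹ ∈ W)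
    (hind : ∀ x ∈ W, x ∉ C → w⁻¹ * x ∈ C) (hw : w ∉ C) :
    (u * u' * u⁻¹ * u'⁻¹) * w = w * (u * u' * u⁻¹ * u'⁻¹) := by
  have aux : ∀ v ∈ centralizer (C : Set G), v * w * v⁻¹ ∈ W → w⁻¹ * (v * w * v⁻¹) ∈ C := by
    intro v hv hvW
    refine hind _ hvW ?_
    intro h
    apply hw
    have h1 : (v * w * v⁻¹) * v = v * (v * w * v⁻¹) := mem_centralizer_iff.mp hv _ h
    have h2 : v * w * v⁻¹ = w := by
      have h3 : v * w = v * (v * w * v⁻¹) := by
        calc v * w = (v * w * v⁻¹) * v := by group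
          _ = v * (v * w * v⁻¹) := h1
      exact (mul_left_cancel h3).symm
    rw [h2] at h
    exact h
  exact commute_of_cent hu hu' hwC (aux u hu huW) (aux u' hu' hu'W)

/-- The data of an index `l ∈ I`, both sides, inside `H`. -/
structure Two (H Z U U' E E' : Subgroup G) : Prop where
  EH : E ≤ H
  EH' : E' ≤ H
  UH : U ≤ H
  UH' : U' ≤ H
  EU : E ≤ normalizer (U : Set G)
  EU' : E' ≤ normalizer (U' : Set G)
  irr : ∀ X : Subgroup G, X ≤ U → E ≤ normalizer (X : Set G) → X = ⊥ ∨ X = U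
  gen' : Gen Z U' E'
  ZU : Z ≤ U
  ZU' : Z ≤ U'
  ne : Z ≠ ⊥
  comm : Z ≤ ⁅U, U'⁆

/-- `C_U(W) = 1`. -/
theorem Two.inf_eq_bot {H W Z U U' E E' : Subgroup G} (h : Two H Z U U' E E')
    (hHW : H ≤ normalizer (W : Set G)) (hc : H ⊓ centralizer (W : Set G) ≤ W) :
    U ⊓ centralizer (W : Set G) = ⊥ := by
  rcases h.irr (U ⊓ centralizer (W : Set G)) inf_le_left
    (inf_centralizer_invariant h.EU (h.EH.trans hHW)) with h0 | h0
  · exact h0
  · exfalso
    have hU : U ≤ centralizer (W : Set G) := by rw [← h0]; exact inf_le_right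
    have h1 : U ≤ W := le_trans (le_inf h.UH hU) hc
    have h2 : U' ⊓ centralizer (W : Set G) = U' :=
      h.gen' _ (le_inf h.ZU' (h.ZU.trans hU)) inf_le_left
        (inf_centralizer_invariant h.EU' (h.EH'.trans hHW))
    have h3 : U' ≤ centralizer (W : Set G) := by rw [← h2]; exact inf_le_right
    have h4 : ⁅U, U'⁆ = ⊥ := by
      rw [commutator_eq_bot_iff_le_centralizer]
      exact le_trans h1 (le_centralizer_iff.mp h3)
    have h5 := h.comm
    rw [h4] at h5
    exact h.ne (le_bot_iff.mp h5)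

theorem le_normalizer_centralizer (Z : Subgroup G) :
    centralizer (Z : Set G) ≤ normalizer ((centralizer (Z : Set G) : Subgroup G) : Set G) :=
  le_normalizer

/-- **THEOREM A of (L3)** (abstract form).  `C = W ∩ P₁` has index `≤ 2` in `W = O₂(H)`; `j ≠ l` two indices with
`E₁ʲ, E₁ˡ, E₂ʲ, E₂ˡ ≤ H` and `[Z_l, E₂ʲ] = 1`: contradiction. -/
theorem false_of_index_two {H W P1 : Subgroup G} (hHW : H ≤ normalizer (W : Set G))
    (hc : H ⊓ centralizer (W : Set G) ≤ W)
    (hind : ∀ x ∈ W, ∀ y ∈ W, x ∉ P1 → y ∉ P1 → x⁻¹ * y ∈ P1)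
    {Uj Ul Uj' Ul' Zj Zl Ej El Ej' El' : Subgroup G}
    (hj : Two H Zj Uj Uj' Ej Ej') (hl : Two H Zl Ul Ul' El El')
    (hsj : W ⊓ P1 ≤ centralizer (Uj : Set G)) (hsl : W ⊓ P1 ≤ centralizer (Ul : Set G))
    (hEjl : Ej' ≤ centralizer (Zl : Set G)) : False := by
  have bl := hl.inf_eq_bot hHW hc
  have bj := hj.inf_eq_bot hHW hc
  -- `C_W(Z_l) = C`
  set C : Subgroup G := W ⊓ P1 with hC
  have hlW : ∃ r ∈ Zl, ∃ w ∈ W, ¬ w * r = r * w := by
    by_contra hcon
    push Not at hcon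
    have h1 : Zl ≤ centralizer (W : Set G) := by
      intro r hr
      exact mem_centralizer_iff.mpr fun w hw => hcon r hr w hw
    have h3 : Zl ≤ Ul ⊓ centralizer (W : Set G) := le_inf hl.ZU h1
    rw [bl] at h3
    exact hl.ne (le_bot_iff.mp h3)
  have hCZ : W ⊓ centralizer (Zl : Set G) = C := by
    refine le_antisymm ?_ (le_inf inf_le_left (hsl.trans (centralizer_le hl.ZU)))
    rintro w ⟨hw, hwZ⟩
    refine ⟨hw, ?_⟩
    by_contra hwP
    obtain ⟨r, hr, x, hx, hxr⟩ := hlW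
    apply hxr
    by_cases hxP : x ∈ P1
    · exact (mem_centralizer_iff.mp (hsl ⟨hx, hxP⟩) r (hl.ZU hr)).symm
    · have h1 : w⁻¹ * x ∈ C := ⟨W.mul_mem (W.inv_mem hw) hx, hind w hw x hx hwP hxP⟩
      have h2 : r * (w⁻¹ * x) = (w⁻¹ * x) * r := mem_centralizer_iff.mp (hsl h1) r (hl.ZU hr)
      have h3 : r * w = w * r := mem_centralizer_iff.mp hwZ r hr
      calc x * r = w * ((w⁻¹ * x) * r) := by group
        _ = w * (r * (w⁻¹ * x)) := by rw [h2]
        _ = (w * r) * (w⁻¹ * x) := by group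
        _ = (r * w) * (w⁻¹ * x) := by rw [h3]
        _ = r * x := by group
  -- `U_j'` centralises `C`
  have hj' : Uj' ≤ centralizer (C : Set G) := by
    have h1 : Ej' ≤ normalizer (C : Set G) := by
      rw [← hCZ]
      exact Half.le_normalizer_inf (hj.EH'.trans hHW) (hEjl.trans (le_normalizer_centralizer Zl))
    have h2 : Uj' ⊓ centralizer (C : Set G) = Uj' := by
      refine hj.gen' _ (le_inf hj.ZU' ?_) inf_le_left (inf_centralizer_invariant hj.EU' h1)
      rw [le_centralizer_iff]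
      exact hsj.trans (centralizer_le hj.ZU)
    rw [← h2]
    exact inf_le_right
  have hj0 : Uj ≤ centralizer (C : Set G) := le_centralizer_iff.mp hsj
  -- `[U_j, U_j']` centralises `W`
  have hWZ : W ≤ centralizer (Zj : Set G) := by
    intro w hw
    have h4 : ⁅Uj, Uj'⁆ ≤ centralizer ({w} : Set G) := by
      rw [commutator_le]
      intro u hu u' hu'
      rw [mem_centralizer_iff]
      intro y hy
      rw [Set.mem_singleton_iff.mp hy, commutatorElement_def]
      by_cases hwC : w ∈ C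
      · have h5 : (u * u' * u⁻¹ * u'⁻¹) ∈ centralizer (C : Set G) :=
          mul_mem (mul_mem (mul_mem (hj0 hu) (hj' hu')) (inv_mem (hj0 hu))) (inv_mem (hj' hu'))
        exact mem_centralizer_iff.mp h5 w hwC
      · have hwP : w ∉ P1 := fun h => hwC ⟨hw, h⟩
        have hnorm : w ∈ normalizer (C : Set G) := by
          have key : ∀ v ∈ W, ∀ c ∈ C, v * c * v⁻¹ ∈ C := by
            intro v hv c hcC
            by_cases hvP : v ∈ P1
            · exact C.mul_mem (C.mul_mem ⟨hv, hvP⟩ hcC) (C.inv_mem ⟨hv, hvP⟩)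
            · refine ⟨W.mul_mem (W.mul_mem hv hcC.1) (W.inv_mem hv), ?_⟩
              by_contra hn
              have h6 := hind v hv _ (W.mul_mem (W.mul_mem hv hcC.1) (W.inv_mem hv)) hvP hn
              have h7 : v⁻¹ * (v * c * v⁻¹) = c * v⁻¹ := by group
              rw [h7] at h6
              have h8 : v⁻¹ ∈ P1 := by
                have := P1.mul_mem (P1.inv_mem hcC.2) h6
                simpa using this
              exact hvP (by simpa using P1.inv_mem h8)
          rw [mem_normalizer_iff]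
          intro x
          refine ⟨key w hw x, fun h => ?_⟩
          have := key w⁻¹ (W.inv_mem hw) _ h
          simpa [mul_assoc] using this
        refine (commute_of_index_two (W := W) (hj0 hu) (hj' hu') hnorm ?_ ?_ ?_ hwC).symm
        · exact (mem_normalizer_iff.mp (hHW (hj.UH hu)) w).mp hw
        · exact (mem_normalizer_iff.mp (hHW (hj.UH' hu')) w).mp hw
        · intro x hx hxC
          refine ⟨W.mul_mem (W.inv_mem hw) hx, hind w hw x hx hwP (fun h => hxC ⟨hx, h⟩)⟩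
    refine mem_centralizer_iff.mpr ?_
    intro z hz
    exact (mem_centralizer_iff.mp (h4 (hj.comm hz)) w rfl).symm
  have h6 : Zj ≤ Uj ⊓ centralizer (W : Set G) := le_inf hj.ZU (le_centralizer_iff.mp hWZ)
  rw [bj] at h6
  exact hj.ne (le_bot_iff.mp h6)

/-- Index `≤ 2` from Sylow: `S° ≤ P₁ ∩ H` of index 2 in a Sylow 2-subgroup `S`, `W` a normal 2-subgroup of `H`. -/
theorem index_two_of_sylow [Finite G] (S : Sylow 2 G) {So H W P1 : Subgroup G}
    (hSo : So ≤ (S : Subgroup G)) (hidx : Nat.card (S : Subgroup G) = 2 * Nat.card So)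
    (hSH : So ≤ H) (hSP : So ≤ P1) (hW : IsPGroup 2 W) (hHW : H ≤ normalizer (W : Set G)) :
    ∀ x ∈ W, ∀ y ∈ W, x ∉ P1 → y ∉ P1 → x⁻¹ * y ∈ P1 := by
  intro x hx y hy hxP hyP
  have hSo2 : IsPGroup 2 So := S.isPGroup'.to_le hSo
  -- `T = W S°` is a 2-group
  have hT : IsPGroup 2 (So ⊔ W : Subgroup G) :=
    IsPGroup.to_sup_of_normal_right' hSo2 hW (hSH.trans hHW)
  have hcard := Half.card_le_sylow S hT
  -- `|T : S°| ≤ 2`
  have hle : So ≤ So ⊔ W := le_sup_left
  have hrel := Half.card_mul_relIndex hle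
  have hrel2 : So.relIndex (So ⊔ W) ≤ 2 := by
    have h1 : Nat.card So * So.relIndex (So ⊔ W) ≤ Nat.card So * 2 := by
      rw [hrel, mul_comm (Nat.card So) 2, ← hidx]
      exact hcard
    exact Nat.le_of_mul_le_mul_left h1 Nat.card_pos
  have hxS : x ∉ So := fun h => hxP (hSP h)
  have hyS : y ∉ So := fun h => hyP (hSP h)
  have hxT : x ∈ So ⊔ W := le_sup_right (a := So) hx
  have hyT : y ∈ So ⊔ W := le_sup_right (a := So) hy
  -- index 2
  have hidx2 : So.relIndex (So ⊔ W) = 2 := by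
    have h0 : So.relIndex (So ⊔ W) ≠ 0 := by
      intro h
      rw [h, mul_zero] at hrel
      exact Nat.card_pos.ne hrel
    have h1 : So.relIndex (So ⊔ W) ≠ 1 := by
      intro h
      rw [relIndex_eq_one] at h
      exact hxS (h hxT)
    omega
  have h2 := (Subgroup.index_eq_two_iff.mp (show (So.subgroupOf (So ⊔ W)).index = 2 from hidx2))
  obtain ⟨a, ha⟩ := h2
  have hx1 := ha ⟨x⁻¹, inv_mem hxT⟩
  have hy1 := ha ⟨x⁻¹ * y, mul_mem (inv_mem hxT) hyT⟩
  have hmem := Subgroup.mul_mem_iff_of_index_two (H := So.subgroupOf (So ⊔ W)) hidx2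
    (a := ⟨x⁻¹, inv_mem hxT⟩) (b := ⟨y, hyT⟩)
  have h3 : (⟨x⁻¹, inv_mem hxT⟩ * ⟨y, hyT⟩ : (So ⊔ W : Subgroup G)) ∈ So.subgroupOf (So ⊔ W) := by
    rw [hmem]
    constructor
    · intro h
      exfalso
      rw [mem_subgroupOf] at h
      exact hxS (by simpa using So.inv_mem h)
    · intro h
      exfalso
      rw [mem_subgroupOf] at h
      exact hyS h
  rw [mem_subgroupOf] at h3
  exact hSP h3

end Cfsg.Agent.Omega.IITwo.Full
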