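import Cfsg.Agent.Omega.IITwo.Bad
import Cfsg.Agent.Omega.IITwo.Full
import Cfsg.Agent.Lib.ProductSet

/-!
# At most 8 blocks (project OMEGA, II.d2 = (L3), `q = 2`; bb OMEGA 13507 (C), 13999 (R4))

`One S P W V E l₀ z` : one side of a pair, `q = 2`: blocks `V l ≅ 2²` of `P` permuted transitively by the Sylow
2-subgroup `S`, `z ∈ V l₀` centralised by `N_S(V l₀)`, `W` a 2-group normal in `C_G(z)`.

`One.relIndex_le` : `|Ω₁ Z(S)| = 2` and at most 8 blocks imply `|W : W ∩ P| ≤ 2`;
`One.triv` : everything in `N(W) ∩ P` is trivial on the cosets of `W ∩ P` in `W`.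
-/

set_option autoImplicit false

namespace Cfsg.Agent.Omega.IITwo.Count

open Subgroup Cfsg Cfsg.Agent.ZN Cfsg.Agent.Omega.IITwo.Full

universe u

variable {G : Type u} [Group G] {ι : Type*}

/-! ### Orbits of blocks -/

theorem map_conj_mul {V : Subgroup G} (a b : G) :
    V.map (MulAut.conj (a * b)).toMonoidHom =
      (V.map (MulAut.conj b).toMonoidHom).map (MulAut.conj a).toMonoidHom := by
  rw [Subgroup.map_map]
  congr 1
  ext x
  simp [mul_assoc]

theorem map_conj_one {V : Subgroup G} : V.map (MulAut.conj (1 : G)).toMonoidHom = V := by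
  ext x
  simp

theorem map_conj_inv {U V : Subgroup G} {a : G} (h : U.map (MulAut.conj a).toMonoidHom = V) :
    V.map (MulAut.conj a⁻¹).toMonoidHom = U := by
  rw [← h, ← map_conj_mul, inv_mul_cancel, map_conj_one]

theorem map_conj_eq_iff [Finite G] {V : Subgroup G} {a : G} :
    V.map (MulAut.conj a).toMonoidHom = V ↔ a ∈ normalizer (V : Set G) := by
  constructor
  · intro h
    refine mem_norm ?_
    intro x hx
    have : (MulAut.conj a).toMonoidHom x ∈ V.map (MulAut.conj a).toMonoidHom := mem_map_of_mem _ hx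
    rw [h] at this
    simpa using this
  · intro h
    refine eq_of_le_of_card_ge ?_ ?_
    · rintro _ ⟨x, hx, rfl⟩
      exact conj_mem h hx
    · rw [card_map_of_injective (MulAut.conj a).injective]

/-- The number of blocks in a `T`-orbit. -/
theorem card_orbit [Finite G] {V : ι → Subgroup G} (hinj : Function.Injective V) {T : Subgroup G}
    (hperm : ∀ t ∈ T, ∀ l, ∃ m, (V l).map (MulAut.conj t).toMonoidHom = V m) (l : ι) :
    Nat.card {m : ι // ∃ t ∈ T, (V l).map (MulAut.conj t).toMonoidHom = V m} =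
      (T ⊓ normalizer (V l : Set G)).relIndex T := by
  classical
  choose f hf using fun t : T => hperm t t.2 l
  rw [relIndex, index, eq_comm]
  refine Nat.card_congr (Equiv.ofBijective (Quotient.lift
    (fun t : T => (⟨f t, t, t.2, hf t⟩ : {m : ι // ∃ t ∈ T, (V l).map (MulAut.conj t).toMonoidHom = V m}))
    ?_) ⟨?_, ?_⟩)
  · intro a b hab
    have h1 : a⁻¹ * b ∈ (T ⊓ normalizer (V l : Set G)).subgroupOf T := QuotientGroup.leftRel_apply.mp hab
    rw [mem_subgroupOf] at h1
    apply Subtype.ext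
    apply hinj
    change V (f a) = V (f b)
    rw [← hf a, ← hf b]
    have h2 := map_conj_eq_iff.mpr h1.2
    have h3 : (b : G) = a * ((a⁻¹ * b : T) : G) := by push_cast; group
    rw [h3, map_conj_mul, h2]
  · intro x y
    obtain ⟨a, rfl⟩ := QuotientGroup.mk_surjective x
    obtain ⟨b, rfl⟩ := QuotientGroup.mk_surjective y
    intro hab
    have h1 : f a = f b := congrArg Subtype.val hab
    refine QuotientGroup.eq.mpr ?_
    rw [mem_subgroupOf]
    refine ⟨(a⁻¹ * b).2, map_conj_eq_iff.mp ?_⟩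
    push_cast
    rw [map_conj_mul, hf b, ← h1, ← hf a, ← map_conj_mul, inv_mul_cancel, map_conj_one]
  · rintro ⟨m, t, ht, hm⟩
    refine ⟨QuotientGroup.mk ⟨t, ht⟩, ?_⟩
    apply Subtype.ext
    apply hinj
    change V (f ⟨t, ht⟩) = V m
    rw [← hf, ← hm]

theorem card_sup_mul_card_inf' {H N : Subgroup G} (h : H ≤ normalizer (N : Set G)) :
    Nat.card (H ⊔ N : Subgroup G) * Nat.card (H ⊓ N : Subgroup G) = Nat.card H * Nat.card N := by
  rw [← Cfsg.Agent.Lib.ProductSet.card_mul_card_inf H N]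
  congr 1
  exact Nat.card_congr (Equiv.setCongr (Subgroup.coe_mul_of_left_le_normalizer_right H N h))

/-! ### One side -/

/-- One side of a pair with `q = 2`, at the block `l₀`. -/
structure One (S P W : Subgroup G) (V E : ι → Subgroup G) (l₀ : ι) (z : G) : Prop where
  side : Side P V E
  SP : S ≤ P
  four : ∀ l, Nat.card (V l) = 4
  sq : ∀ l, ∀ v ∈ V l, v * v = 1
  comm : ∀ i l, ∀ u ∈ V i, ∀ v ∈ V l, u * v = v * u
  VS : ∀ l, V l ≤ S
  trans : ∀ l, ∃ s ∈ S, (V l₀).map (MulAut.conj s).toMonoidHom = V l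
  zV : z ∈ V l₀
  z1 : z ≠ 1
  zS : ∀ s ∈ S, s ∈ normalizer (V l₀ : Set G) → s * z = z * s
  tr : ∀ l, ∃ b ∈ S, (∀ i, i ≠ l → ∀ v ∈ V i, v * b = b * v) ∧ ∃ v ∈ V l, v * b ≠ b * v
  three : ∀ l, ∃ e ∈ E l, Three (V l) e
  W2 : IsPGroup 2 W
  Wz : W ≤ centralizer ({z} : Set G)
  zW : centralizer ({z} : Set G) ≤ normalizer (W : Set G)

namespace One

variable {P W : Subgroup G} {V E : ι → Subgroup G} {l₀ : ι} {z : G}

theorem disj {S : Subgroup G} (h : One S P W V E l₀ z) {i l : ι} (hil : i ≠ l) {v : G}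
    (hi : v ∈ V i) (hl : v ∈ V l) : v = 1 := by
  have h1 : v ∈ V l ⊓ centralizer (E l : Set G) :=
    ⟨hl, mem_centralizer_iff.mpr fun e he =>
      (mem_centralizer_iff.mp (h.side.cent i l hil he) v hi).symm⟩
  rw [h.side.nt l] at h1
  exact mem_bot.mp h1

theorem inj {S : Subgroup G} (h : One S P W V E l₀ z) : Function.Injective V := by
  intro i l hil
  by_contra hne
  apply h.side.ne i
  rw [eq_bot_iff]
  intro v hv
  exact mem_bot.mpr (h.disj hne hv (hil ▸ hv))

/-- elements of `P` centralising `z` normalise `V l₀`. -/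
theorem nor_of_comm [Finite G] {S : Subgroup G} (h : One S P W V E l₀ z) {g : G} (hg : g ∈ P)
    (hgz : g * z = z * g) : g ∈ normalizer (V l₀ : Set G) := by
  obtain ⟨m, hm⟩ := h.side.perm g hg l₀
  have h1 : z ∈ V m := by
    rw [← hm]
    refine ⟨z, h.zV, ?_⟩
    have : g * z * g⁻¹ = z := by rw [hgz]; group
    simpa using this
  have h2 : l₀ = m := by
    by_contra hne
    exact h.z1 (h.disj hne h.zV h1)
  rw [← h2] at hm
  exact map_conj_eq_iff.mp hm

theorem inf_eq [Finite G] {S : Subgroup G} (h : One S P W V E l₀ z) :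
    S ⊓ centralizer ({z} : Set G) = S ⊓ normalizer (V l₀ : Set G) := by
  ext s
  constructor
  · rintro ⟨hs, hsz⟩
    exact ⟨hs, h.nor_of_comm (h.SP hs) (mem_centralizer_iff.mp hsz z rfl).symm⟩
  · rintro ⟨hs, hsn⟩
    refine ⟨hs, mem_centralizer_iff.mpr ?_⟩
    intro y hy
    rw [Set.mem_singleton_iff.mp hy]
    exact (h.zS s hs hsn).symm

theorem perm_trans {S : Subgroup G} (h : One S P W V E l₀ z) (i m : ι) :
    ∃ s ∈ S, (V i).map (MulAut.conj s).toMonoidHom = V m := by
  obtain ⟨a, ha, ha'⟩ := h.trans i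
  obtain ⟨b, hb, hb'⟩ := h.trans m
  refine ⟨b * a⁻¹, mul_mem hb (inv_mem ha), ?_⟩
  rw [map_conj_mul, map_conj_inv ha', hb']

theorem card_index [Finite G] {S : Subgroup G} (h : One S P W V E l₀ z) (i : ι) :
    (S ⊓ normalizer (V i : Set G)).relIndex S = Nat.card ι := by
  rw [← card_orbit h.inj (fun t ht l => h.side.perm t (h.SP ht) l) i]
  exact Nat.card_congr (Equiv.subtypeUnivEquiv fun m => h.perm_trans i m)

theorem card_eq [Finite G] {S : Subgroup G} (h : One S P W V E l₀ z) (i : ι) :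
    Nat.card (S ⊓ normalizer (V i : Set G) : Subgroup G) =
      Nat.card (S ⊓ centralizer ({z} : Set G) : Subgroup G) := by
  have h1 := Half.card_mul_relIndex (A := S ⊓ normalizer (V i : Set G)) (B := S) inf_le_left
  have h2 := Half.card_mul_relIndex (A := S ⊓ normalizer (V l₀ : Set G)) (B := S) inf_le_left
  rw [h.card_index] at h1 h2
  rw [h.inf_eq]
  have h3 : Nat.card ι ≠ 0 := by
    intro h0
    rw [h0, mul_zero] at h1
    exact Nat.card_pos.ne h1
  exact Nat.eq_of_mul_eq_mul_right (Nat.pos_of_ne_zero h3) (h1.trans h2.symm)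

theorem card_mul_card [Finite G] {S : Subgroup G} (h : One S P W V E l₀ z) :
    Nat.card (S ⊓ centralizer ({z} : Set G) : Subgroup G) * Nat.card ι = Nat.card S := by
  have h2 := Half.card_mul_relIndex (A := S ⊓ normalizer (V l₀ : Set G)) (B := S) inf_le_left
  rw [h.card_index, ← h.inf_eq] at h2
  exact h2

/-- `C_S(z)` is a 2-subgroup of `C_P(z)` of maximal order. -/
theorem card_le [Finite G] {S : Sylow 2 G} (h : One (S : Subgroup G) P W V E l₀ z)
    {X : Subgroup G} (hX : IsPGroup 2 X) (hXP : X ≤ P) (hXz : X ≤ centralizer ({z} : Set G)) :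
    Nat.card X ≤ Nat.card ((S : Subgroup G) ⊓ centralizer ({z} : Set G) : Subgroup G) := by
  have : Fact (Nat.Prime 2) := ⟨Nat.prime_two⟩
  obtain ⟨R, hR⟩ := (hX.comap_of_injective P.subtype P.subtype_injective).exists_le_sylow
  obtain ⟨g, hg⟩ := MulAction.exists_smul_eq P R (S.subtype h.SP)
  obtain ⟨m, hm⟩ := h.side.perm g g.2 l₀
  have hmem : ∀ x ∈ X, (g : G) * x * (g : G)⁻¹ ∈ (S : Subgroup G) := by
    intro x hx
    have h1 : (⟨x, hXP hx⟩ : P) ∈ R := hR (by rw [mem_comap]; exact hx)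
    have h2 : g * ⟨x, hXP hx⟩ * g⁻¹ ∈ g • R := by
      rw [Sylow.smul_def]
      exact ⟨⟨x, hXP hx⟩, h1, rfl⟩
    rw [hg] at h2
    have h3 := h2
    rw [← SetLike.mem_coe] at h3
    have h4 : ((g * ⟨x, hXP hx⟩ * g⁻¹ : P) : G) ∈ (S : Subgroup G) := h3
    simpa using h4
  have hnor : ∀ x ∈ X, (g : G) * x * (g : G)⁻¹ ∈ normalizer (V m : Set G) := by
    intro x hx
    rw [← map_conj_eq_iff, ← hm, ← map_conj_mul]
    have h1 : x ∈ normalizer (V l₀ : Set G) :=
      h.nor_of_comm (hXP hx) (mem_centralizer_iff.mp (hXz hx) z rfl).symm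
    have h2 : (g : G) * x * (g : G)⁻¹ * g = g * x := by group
    rw [h2, map_conj_mul, map_conj_eq_iff.mpr h1]
  rw [← h.card_eq m]
  refine Nat.card_le_card_of_injective
    (fun x : X => (⟨(g : G) * x * (g : G)⁻¹, hmem x x.2, hnor x x.2⟩ :
      ((S : Subgroup G) ⊓ normalizer (V m : Set G) : Subgroup G))) ?_
  intro a b hab
  have := congrArg Subtype.val hab
  exact Subtype.ext (mul_left_cancel (mul_right_cancel this))

theorem T_le {S : Subgroup G} (h : One S P W V E l₀ z) :
    S ⊓ centralizer ({z} : Set G) ≤ normalizer (W : Set G) := inf_le_right.trans h.zW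

theorem T_le' {S : Subgroup G} (h : One S P W V E l₀ z) :
    S ⊓ centralizer ({z} : Set G) ≤ normalizer ((W ⊓ P : Subgroup G) : Set G) :=
  Half.le_normalizer_inf h.T_le ((inf_le_left.trans h.SP).trans le_normalizer)

/-- `W ∩ P ≤ C_S(z)`. -/
theorem inf_le [Finite G] {S : Sylow 2 G} (h : One (S : Subgroup G) P W V E l₀ z) :
    W ⊓ P ≤ (S : Subgroup G) ⊓ centralizer ({z} : Set G) := by
  have : Fact (Nat.Prime 2) := ⟨Nat.prime_two⟩
  have h1 : IsPGroup 2 ((S : Subgroup G) ⊓ centralizer ({z} : Set G) ⊔ (W ⊓ P) : Subgroup G) :=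
    (S.isPGroup'.to_le inf_le_left).to_sup_of_normal_right' (h.W2.to_le inf_le_left) h.T_le'
  have h2 := h.card_le h1 (sup_le (inf_le_left.trans h.SP) inf_le_right)
    (sup_le inf_le_right (inf_le_left.trans h.Wz))
  have h3 := eq_of_le_of_card_ge (le_sup_left : (S : Subgroup G) ⊓ centralizer ({z} : Set G) ≤
    (S : Subgroup G) ⊓ centralizer ({z} : Set G) ⊔ (W ⊓ P)) h2
  rw [h3]
  exact le_sup_right

theorem inf_eq' [Finite G] {S : Sylow 2 G} (h : One (S : Subgroup G) P W V E l₀ z) :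
    (S : Subgroup G) ⊓ centralizer ({z} : Set G) ⊓ W = W ⊓ P :=
  le_antisymm (le_inf inf_le_right ((inf_le_left.trans inf_le_left).trans h.SP))
    (le_inf h.inf_le inf_le_left)

theorem isPGroup_sup [Finite G] {S : Sylow 2 G} (h : One (S : Subgroup G) P W V E l₀ z) :
    IsPGroup 2 (W ⊔ ((S : Subgroup G) ⊓ centralizer ({z} : Set G)) : Subgroup G) := by
  have : Fact (Nat.Prime 2) := ⟨Nat.prime_two⟩
  rw [sup_comm]
  exact (S.isPGroup'.to_le inf_le_left).to_sup_of_normal_right' h.W2 h.T_le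

/-- `|W C_S(z)| = |C_S(z)| |W : W ∩ P|`. -/
theorem card_sup [Finite G] {S : Sylow 2 G} (h : One (S : Subgroup G) P W V E l₀ z) :
    Nat.card (W ⊔ ((S : Subgroup G) ⊓ centralizer ({z} : Set G)) : Subgroup G) =
      Nat.card ((S : Subgroup G) ⊓ centralizer ({z} : Set G) : Subgroup G) * (W ⊓ P).relIndex W := by
  have h1 := card_sup_mul_card_inf' h.T_le
  rw [h.inf_eq', ← Half.card_mul_relIndex (inf_le_left : W ⊓ P ≤ W)] at h1
  rw [sup_comm]
  have h2 : 0 < Nat.card (W ⊓ P : Subgroup G) := Nat.card_pos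
  refine Nat.eq_of_mul_eq_mul_right h2 ?_
  rw [h1]
  ring

theorem relIndex_le_card [Finite G] {S : Sylow 2 G} (h : One (S : Subgroup G) P W V E l₀ z) :
    (W ⊓ P).relIndex W ≤ Nat.card ι := by
  have h1 := Half.card_le_sylow S h.isPGroup_sup
  rw [h.card_sup, ← h.card_mul_card] at h1
  exact Nat.le_of_mul_le_mul_left h1 Nat.card_pos

theorem E_le {S : Subgroup G} (h : One S P W V E l₀ z) {l : ι} (hl : l ≠ l₀) :
    E l ≤ centralizer ({z} : Set G) := by
  intro e he
  refine mem_centralizer_iff.mpr ?_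
  intro y hy
  rw [Set.mem_singleton_iff.mp hy]
  exact mem_centralizer_iff.mp (h.side.cent l₀ l hl.symm he) z h.zV

theorem E_le' {S : Subgroup G} (h : One S P W V E l₀ z) {l : ι} (hl : l ≠ l₀) :
    E l ≤ normalizer ((W ⊓ P : Subgroup G) : Set G) :=
  Half.le_normalizer_inf ((h.E_le hl).trans h.zW) ((h.side.EP l).trans le_normalizer)

/-- The set of good indices. -/
def good (W P : Subgroup G) (V : ι → Subgroup G) (l₀ : ι) : Set ι :=
  {l | l ≠ l₀ ∧ ∃ x, Wit W (W ⊓ P) V l x}

theorem V_le {S : Subgroup G} (h : One S P W V E l₀ z) (l : ι) :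
    V l ≤ S ⊓ centralizer ({z} : Set G) := by
  intro v hv
  refine ⟨h.VS l hv, mem_centralizer_iff.mpr ?_⟩
  intro y hy
  rw [Set.mem_singleton_iff.mp hy]
  exact h.comm l₀ l z h.zV v hv

/-- The set of good indices is `T`-invariant. -/
theorem good_inv [Finite G] {S : Subgroup G} (h : One S P W V E l₀ z) {t : G}
    (ht : t ∈ S ⊓ centralizer ({z} : Set G)) {l : ι} (hl : l ∈ good W P V l₀) :
    ∃ m ∈ good W P V l₀, (V l).map (MulAut.conj t).toMonoidHom = V m := by
  obtain ⟨m, hm⟩ := h.side.perm t (h.SP ht.1) l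
  have htn : (V l₀).map (MulAut.conj t).toMonoidHom = V l₀ := by
    refine map_conj_eq_iff.mpr ?_
    rw [h.inf_eq] at ht
    exact ht.2
  refine ⟨m, ⟨?_, ?_⟩, hm⟩
  · rintro rfl
    apply hl.1
    apply h.inj
    rw [← map_conj_inv hm, map_conj_inv htn]
  · obtain ⟨x, hx⟩ := hl.2
    have key : ∀ v ∈ V m, t⁻¹ * v * t ∈ V l := by
      intro v hv
      rw [← hm] at hv
      obtain ⟨u, hu, rfl⟩ := hv
      have : t⁻¹ * ((MulAut.conj t).toMonoidHom u) * t = u := by
        simp [mul_assoc]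
      rw [this]; exact hu
    refine ⟨t * x * t⁻¹, ⟨conj_mem_ker (h.T_le ht) (h.T_le' ht) hx.mem, ?_, ?_, ?_⟩⟩
    · intro i hi v hv
      obtain ⟨j, hj⟩ := h.side.perm t⁻¹ (inv_mem (h.SP ht.1)) i
      have hjl : j ≠ l := by
        rintro rfl
        apply hi
        apply h.inj
        rw [← hm, ← hj, ← map_conj_mul, mul_inv_cancel, map_conj_one]
      have h1 : t⁻¹ * v * t ∈ V j := by
        rw [← hj]
        exact ⟨v, hv, by simp⟩
      have h2 := hx.cent j hjl _ h1
      calc t * x * t⁻¹ * v = t * (x * (t⁻¹ * v * t)) * t⁻¹ := by group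
        _ = t * ((t⁻¹ * v * t) * x) * t⁻¹ := by rw [h2]
        _ = v * (t * x * t⁻¹) := by group
    · refine mem_norm ?_
      intro v hv
      have h1 := conj_mem hx.nor (key v hv)
      have h2 : t * (x * (t⁻¹ * v * t) * x⁻¹) * t⁻¹ ∈ V m := by
        rw [← hm]
        exact ⟨_, h1, by simp⟩
      have h3 : t * (x * (t⁻¹ * v * t) * x⁻¹) * t⁻¹ = t * x * t⁻¹ * v * (t * x * t⁻¹)⁻¹ := by group
      rwa [h3] at h2
    · intro v hv
      have h1 := hx.three _ (key v hv)
      have h2 : v * (t * x * t⁻¹ * v * (t * x * t⁻¹)⁻¹) *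
          (t * x * t⁻¹ * (t * x * t⁻¹ * v * (t * x * t⁻¹)⁻¹) * (t * x * t⁻¹)⁻¹) =
          t * ((t⁻¹ * v * t) * (x * (t⁻¹ * v * t) * x⁻¹) *
            (x * (x * (t⁻¹ * v * t) * x⁻¹) * x⁻¹)) * t⁻¹ := by group
      rw [h2, h1]; group

/-- The data of the count for all good indices. -/
theorem cnt [Finite G] {S : Sylow 2 G} (h : One (S : Subgroup G) P W V E l₀ z) {x : ι → G}
    (hx : ∀ l ∈ good W P V l₀, Wit W (W ⊓ P) V l (x l)) :
    Cnt W (W ⊓ P) ((S : Subgroup G) ⊓ centralizer ({z} : Set G)) V (good W P V l₀) x where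
  W2 := h.W2
  T2 := S.isPGroup'.to_le inf_le_left
  TW := h.T_le
  TC := h.T_le'
  VT := fun l _ => h.V_le l
  ne := fun l _ => h.side.ne l
  sq := fun l _ => h.sq l
  comm := fun i _ l _ => h.comm i l
  CV := fun _ hl => h.side.star (h.W2.to_le inf_le_left) inf_le_right (h.E_le' hl.1)
  wit := hx
  perm := fun t ht l => h.side.perm t (h.SP ht.1) l

theorem z_mem [Finite G] {S : Sylow 2 G} (h : One (S : Subgroup G) P W V E l₀ z) :
    z ∈ zc (W ⊔ ((S : Subgroup G) ⊓ centralizer ({z} : Set G))) := by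
  refine MinSimple.VModule.mem_zc.mpr ⟨mem_sup_right (h.V_le l₀ h.zV), fun b hb => ?_, ?_⟩
  · have h1 : W ⊔ ((S : Subgroup G) ⊓ centralizer ({z} : Set G)) ≤ centralizer ({z} : Set G) :=
      sup_le h.Wz inf_le_right
    exact (mem_centralizer_iff.mp (h1 hb) z rfl).symm
  · rw [pow_two]; exact h.sq l₀ z h.zV

/-- The number of bad indices. -/
theorem bad_le [Finite G] [Fintype ι] [DecidableEq ι] {S : Sylow 2 G}
    (h : One (S : Subgroup G) P W V E l₀ z) (B : Finset ι)
    (hB : ∀ l ∈ B, l ≠ l₀ ∧ ¬ ∃ x, Wit W (W ⊓ P) V l x) :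
    ∃ j : ℕ, B.card ≤ j ∧ 2 ^ j ∣ ((W ⊓ P).relIndex W - 1).factorial := by
  have : Fact (Nat.Prime 2) := ⟨Nat.prime_two⟩
  set T : Subgroup G := (S : Subgroup G) ⊓ centralizer ({z} : Set G) with hT
  set A : Subgroup G := T ⊓ ⨅ i, normalizer (V i : Set G) with hA
  have hAT : A ≤ T := inf_le_left
  have hA2 : IsPGroup 2 A := (S.isPGroup'.to_le inf_le_left).to_le hAT
  have hAn : ∀ i, A ≤ normalizer (V i : Set G) := fun i => inf_le_right.trans (iInf_le _ i)
  choose b hbS hbc hbn using h.tr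
  choose e he he3 using h.three
  have hbA : ∀ l ∈ B, b l ∈ A := by
    intro l hl
    refine ⟨⟨hbS l, mem_centralizer_iff.mpr ?_⟩, ?_⟩
    · intro y hy
      rw [Set.mem_singleton_iff.mp hy]
      exact hbc l l₀ (hB l hl).1.symm z h.zV
    · change b l ∈ (⨅ i, normalizer (V i : Set G) : Subgroup G)
      rw [mem_iInf]
      have hfix : ∀ i, i ≠ l → (V i).map (MulAut.conj (b l)).toMonoidHom = V i := by
        intro i hi
        refine map_conj_eq_iff.mpr (mem_norm ?_)
        intro v hv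
        have h1 : b l * v * (b l)⁻¹ = v := by
          rw [← hbc l i hi v hv]; group
        rw [h1]; exact hv
      intro i
      by_cases hi : i = l
      · subst hi
        obtain ⟨m, hm⟩ := h.side.perm (b i) (h.SP (hbS i)) i
        have hmi : m = i := by
          by_contra hne
          apply hne
          apply h.inj
          have h1 := hfix m hne
          rw [← map_conj_inv hm, map_conj_inv h1]
        rw [hmi] at hm
        exact map_conj_eq_iff.mp hm
      · exact map_conj_eq_iff.mp (hfix i hi)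
  have h1 := two_pow_bad_le (W := W) (C := W ⊓ P) (A := A) (V := V) B (b := b) (e := e) hA2 hAn
    (fun l _ => h.four l) (fun l _ => h.sq l) (fun l _ => h.comm l l) hbA
    (fun l _ i hi => hbc l i hi) (fun l _ => hbn l)
    (fun l hl => (h.E_le (hB l hl).1).trans h.zW (he l)) (fun l hl => h.E_le' (hB l hl).1 (he l))
    (fun l _ => h.side.nor l (he l)) (fun l _ => he3 l)
    (fun l _ i hi v hv => (mem_centralizer_iff.mp (h.side.cent i l hi (he l)) v hv).symm)
    (fun l hl => (hB l hl).2)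
  have h2 := relIndex_ker_dvd (W := W) (C := W ⊓ P) (A := A) (hAT.trans h.T_le) (hAT.trans h.T_le')
  obtain ⟨n, hn⟩ := IsPGroup.iff_card.mp hA2
  have h3 : (ker W (W ⊓ P)).relIndex A ∣ 2 ^ n := by
    rw [← hn]
    exact relIndex_dvd_card _ _
  obtain ⟨j, -, hj⟩ := (Nat.dvd_prime_pow Nat.prime_two).mp h3
  refine ⟨j, ?_, ?_⟩
  · rw [hj] at h1
    exact (Nat.pow_le_pow_iff_right (by norm_num)).mp h1
  · rw [← hj]; exact h2

theorem two_pow_dvd_six {j : ℕ} (h : 2 ^ j ∣ Nat.factorial 3) : j ≤ 1 := by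
  by_contra hj
  have h1 : 2 ^ 2 ∣ Nat.factorial 3 := (pow_dvd_pow 2 (by omega)).trans h
  revert h1
  decide

theorem two_pow_dvd_seven {j : ℕ} (h : 2 ^ j ∣ Nat.factorial 7) : j ≤ 4 := by
  by_contra hj
  have h1 : 2 ^ 5 ∣ Nat.factorial 7 := (pow_dvd_pow 2 (by omega)).trans h
  revert h1
  decide

/-- **At most 8 blocks: `|W : W ∩ P| ≤ 2`.** -/
theorem relIndex_le [Finite G] [Finite ι] {S : Sylow 2 G}
    (h : One (S : Subgroup G) P W V E l₀ z) (hS : Nat.card (zc (S : Subgroup G)) = 2)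
    (hι : Nat.card ι ≤ 8) : (W ⊓ P).relIndex W ≤ 2 := by
  classical
  have : Fact (Nat.Prime 2) := ⟨Nat.prime_two⟩
  have := Fintype.ofFinite ι
  by_contra hcon
  rw [not_le] at hcon
  -- powers of two
  obtain ⟨a, ha⟩ := IsPGroup.iff_card.mp h.W2
  have h1 : (W ⊓ P).relIndex W ∣ 2 ^ a := by
    rw [← ha]
    exact relIndex_dvd_card _ _
  obtain ⟨e, -, he⟩ := (Nat.dvd_prime_pow Nat.prime_two).mp h1
  obtain ⟨c, hc⟩ := IsPGroup.iff_card.mp S.isPGroup'
  have h2 : Nat.card ι ∣ 2 ^ c := by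
    rw [← hc, ← h.card_mul_card]
    exact dvd_mul_left _ _
  obtain ⟨m, -, hm⟩ := (Nat.dvd_prime_pow Nat.prime_two).mp h2
  have h3 := h.relIndex_le_card
  rw [he] at hcon
  rw [he, hm] at h3
  have hem : e ≤ m := (Nat.pow_le_pow_iff_right (by norm_num)).mp h3
  have hm3 : m ≤ 3 := by
    rw [hm] at hι
    by_contra h
    have : 2 ^ 4 ≤ 2 ^ m := Nat.pow_le_pow_right (by norm_num) (by omega)
    omega
  have he2 : 2 ≤ e := by
    by_contra h
    have : 2 ^ e ≤ 2 ^ 1 := Nat.pow_le_pow_right (by norm_num) (by omega)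
    omega
  -- good and bad
  set B : Finset ι := (Finset.univ.erase l₀).filter (fun l => ¬ ∃ x, Wit W (W ⊓ P) V l x) with hB
  set J : Finset ι := (Finset.univ.erase l₀).filter (fun l => ∃ x, Wit W (W ⊓ P) V l x) with hJ
  have hJB : J.card + B.card + 1 = 2 ^ m := by
    rw [hJ, hB, Finset.card_filter_add_card_filter_not, Finset.card_erase_of_mem (Finset.mem_univ _),
      Finset.card_univ, ← Nat.card_eq_fintype_card, hm]
    have : 0 < 2 ^ m := by positivity
    omega
  have hJg : (J : Set ι) = good W P V l₀ := by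
    ext l
    simp [hJ, good]
  obtain ⟨j, hj1, hj2⟩ := h.bad_le B (fun l hl => by
    rw [hB, Finset.mem_filter, Finset.mem_erase] at hl
    exact ⟨hl.1.1, hl.2⟩)
  rw [he] at hj2
  have hx : ∃ x : ι → G, ∀ l ∈ good W P V l₀, Wit W (W ⊓ P) V l (x l) := by
    refine ⟨fun l => if hl : l ∈ good W P V l₀ then hl.2.choose else 1, fun l hl => ?_⟩
    simp only [dif_pos hl]
    exact hl.2.choose_spec
  obtain ⟨x, hx⟩ := hx
  have hcnt := h.cnt hx
  set X : Subgroup G := W ⊔ ((S : Subgroup G) ⊓ centralizer ({z} : Set G)) with hX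
  have hX2 : IsPGroup 2 X := h.isPGroup_sup
  have hzX : z ∈ zc X := h.z_mem
  have hzx : ∀ l ∈ good W P V l₀, x l * z = z * x l := fun l hl =>
    (hx l hl).cent l₀ hl.1.symm z h.zV
  have hcardX : Nat.card X * 2 ^ m = Nat.card (S : Subgroup G) * 2 ^ e := by
    rw [← hm, ← he, hX, h.card_sup, ← h.card_mul_card]
    ring
  have hinv : ∀ t ∈ (S : Subgroup G) ⊓ centralizer ({z} : Set G), ∀ l ∈ good W P V l₀,
      ∃ m ∈ good W P V l₀, (V l).map (MulAut.conj t).toMonoidHom = V m :=
    fun t ht l hl => h.good_inv ht hl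
  rcases Nat.lt_or_ge e m with hlt | hge
  · -- `m = 3`, `e = 2`
    obtain rfl : m = 3 := by omega
    obtain rfl : e = 2 := by omega
    have hj3 : j ≤ 1 := two_pow_dvd_six hj2
    have hJ6 : J.card = 6 ∨ J.card = 7 := by omega
    have hJne : J.Nonempty := by
      rw [← Finset.card_pos]; omega
    obtain ⟨l, hl⟩ := hJne
    have hlg : l ∈ good W P V l₀ := by rw [← hJg]; exact hl
    set O₁ : Set ι := {m : ι | ∃ t ∈ (S : Subgroup G) ⊓ centralizer ({z} : Set G),
      (V l).map (MulAut.conj t).toMonoidHom = V m} with hO₁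
    have hO₁J : O₁ ⊆ good W P V l₀ := by
      rintro m ⟨t, ht, htm⟩
      obtain ⟨m', hm', hm2⟩ := hinv t ht l hlg
      have : m = m' := h.inj (htm.symm.trans hm2)
      rw [this]; exact hm'
    have hO₁c : ∃ n, Nat.card O₁ = 2 ^ n := by
      have e1 := card_orbit h.inj (T := (S : Subgroup G) ⊓ centralizer ({z} : Set G))
        (fun t ht l => h.side.perm t (h.SP ht.1) l) l
      have e2 : Nat.card O₁ = _ := e1
      obtain ⟨n, hn⟩ := IsPGroup.iff_card.mp
        ((S.isPGroup'.to_le inf_le_left : IsPGroup 2 ((S : Subgroup G) ⊓ centralizer ({z} : Set G) :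
          Subgroup G)))
      rw [e2]
      have e3 := relIndex_dvd_card (((S : Subgroup G) ⊓ centralizer ({z} : Set G)) ⊓
        normalizer (V l : Set G)) ((S : Subgroup G) ⊓ centralizer ({z} : Set G))
      rw [hn] at e3
      obtain ⟨n', -, hn'⟩ := (Nat.dvd_prime_pow Nat.prime_two).mp e3
      exact ⟨n', hn'⟩
    have hne2 : (good W P V l₀ \ O₁).Nonempty := by
      rw [Set.sdiff_nonempty]
      intro hsub
      have e1 : O₁ = (J : Set ι) := (Set.Subset.antisymm hO₁J hsub).trans hJg.symm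
      obtain ⟨n, hn⟩ := hO₁c
      rw [e1] at hn
      have e2 : Nat.card (J : Set ι) = J.card := by simp
      rw [e2] at hn
      have hn3 : n < 3 := by
        by_contra h
        have : 2 ^ 3 ≤ 2 ^ n := Nat.pow_le_pow_right (by norm_num) (by omega)
        omega
      interval_cases n <;> omega
    obtain ⟨A, hA1, -, hA2⟩ := hcnt.card_zc (κ := Bool) Finset.univ
      (fun i => if i then O₁ else good W P V l₀ \ O₁)
      (by
        rintro (_ | _) -
        · simpa using Set.diff_subset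
        · simpa using hO₁J)
      (by
        rintro (_ | _) -
        · simpa using hne2
        · simp only [if_true]
          refine ⟨l, 1, one_mem _, map_conj_one⟩)
      (by
        rintro (_ | _) - t ht i hi
        · simp only [Bool.false_eq_true, if_false] at hi ⊢
          obtain ⟨m, hm1, hm2⟩ := hinv t ht i hi.1
          refine ⟨m, ⟨hm1, ?_⟩, hm2⟩
          rintro ⟨s, hs, hsm⟩
          apply hi.2
          refine ⟨t⁻¹ * s, mul_mem (inv_mem ht) hs, ?_⟩
          rw [map_conj_mul, hsm, ← map_conj_inv hm2]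
        · simp only [if_true] at hi ⊢
          obtain ⟨s, hs, hsi⟩ := hi
          obtain ⟨m, hm1, hm2⟩ := hinv t ht i (hO₁J ⟨s, hs, hsi⟩)
          refine ⟨m, ⟨t * s, mul_mem ht hs, ?_⟩, hm2⟩
          rw [map_conj_mul, hsi, hm2])
      (by
        rintro (_ | _) - (_ | _) - hne
        · exact absurd rfl hne
        · simpa using Set.disjoint_sdiff_left
        · simpa using Set.disjoint_sdiff_right
        · exact absurd rfl hne)
      hX2 rfl hzX h.z1 hzx
    -- the Sylow group above `X`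
    obtain ⟨R, hR⟩ := hX2.exists_le_sylow
    have hRc : Nat.card (R : Subgroup G) = Nat.card (S : Subgroup G) := by
      rw [S.card_eq_multiplicity, ← R.card_eq_multiplicity]
    have hXR : X.relIndex (R : Subgroup G) = 2 := by
      have e1 := Half.card_mul_relIndex hR
      rw [hRc] at e1
      have e2 : 0 < Nat.card X := Nat.card_pos
      have e3 : Nat.card X * (X.relIndex (R : Subgroup G) * 2 ^ 2) = Nat.card X * (2 * 2 ^ 2) := by
        rw [← mul_assoc, e1, ← hcardX]; ring
      have e4 := Nat.eq_of_mul_eq_mul_left e2 e3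
      omega
    have e5 := card_zc_le_sq hR hXR
    rw [Half.card_zc_of_card_eq S R.isPGroup' hRc, hS] at e5
    have e6 := card_le_of_le hA1
    have e7 : (Finset.univ : Finset Bool).card = 2 := rfl
    rw [e7] at hA2
    norm_num at hA2 e5
    omega
  · -- `e = m`
    obtain rfl : e = m := le_antisymm hem hge
    have hcX : Nat.card X = Nat.card (S : Subgroup G) :=
      Nat.eq_of_mul_eq_mul_right (by positivity) hcardX
    have hJne : (good W P V l₀).Nonempty := by
      rw [← hJg, Finset.coe_nonempty, ← Finset.card_pos]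
      have : e = 2 ∨ e = 3 := by omega
      rcases this with rfl | rfl
      · have hj3 : j ≤ 1 := two_pow_dvd_six hj2
        omega
      · have hj3 : j ≤ 4 := two_pow_dvd_seven hj2
        omega
    obtain ⟨A, hA1, -, hA2⟩ := hcnt.card_zc (κ := Unit) Finset.univ (fun _ => good W P V l₀)
      (fun _ _ => subset_rfl) (fun _ _ => hJne) (fun _ _ => hinv)
      (fun a _ b _ hab => absurd (Subsingleton.elim a b) hab) hX2 rfl hzX h.z1 hzx
    have e6 := card_le_of_le hA1
    rw [Half.card_zc_of_card_eq S hX2 hcX, hS] at e6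
    have e7 : (Finset.univ : Finset Unit).card = 1 := rfl
    rw [e7] at hA2
    norm_num at hA2
    omega

/-- everything normalising `W` and contained in `P` is trivial on the cosets of `W ∩ P` in `W`. -/
theorem triv [Finite G] [Finite ι] {S : Sylow 2 G}
    (h : One (S : Subgroup G) P W V E l₀ z) (hS : Nat.card (zc (S : Subgroup G)) = 2)
    (hι : Nat.card ι ≤ 8) {K : Subgroup G} (hKW : K ≤ normalizer (W : Set G)) (hKP : K ≤ P) :
    Triv W (W ⊓ P) K := fun g hg =>
  (mem_ker_of_le_two (hKW hg)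
    (Half.le_normalizer_inf hKW (hKP.trans le_normalizer) hg) (h.relIndex_le hS hι)).2.2

end One

end Cfsg.Agent.Omega.IITwo.Count
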