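import Cfsg.Agent.Omega.IITwo.Bad

/-!
# The structure of `Ω₁ Z(O₂(P))` (project OMEGA, II.d2 = (L3), `q = 2`; bb OMEGA 14650 (B), helper358)

`P` with natural factors `V l` of order 4, `x l ∈ P` of order 3 on `V l` and trivial on the other
factors, `Q = O₂(P)`, `A = Ω₁ Z(Q) = zc Q`, `C_A(S) = ⟨z⟩`, `z ∈ ∏ V l`.

* `Blk.ker_of_odd` : `C_P(V)` centralises `A` if `|C_P(V) : Q|` is odd;
* `Blk.nh` : the projection `A → [A, x l]`, `Blk.nh_nh` (orthogonal), `Blk.eq_one_of_nh`,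
  `Blk.prod_nh` : `A = ∏ [A, x l]` (direct);
* `Blk.fixed` : `C_{[A, x l]}(N_S(V l)) = ⟨z l⟩`;
* (B1) `Blk.fixed_one`, `Blk.fixed_two`.
-/

set_option autoImplicit false

namespace Cfsg.Agent.Omega.IITwo.Three

open Subgroup Cfsg Cfsg.Agent.ZN Cfsg.Agent.MinSimple.VModule
open Cfsg.Agent.Omega.IITwo.Count (Three conj_mem conj_mem')
open scoped IsMulCommutative commutatorElement

universe u

/-! ### Commuting idempotents of an abelian group -/

section Idem

variable {A : Type*} [CommGroup A] {ι : Type*} {n : ι → A →* A}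

theorem idem_eq_one (hc : ∀ i j a, n i (n j a) = n j (n i a)) (hi : ∀ i a, n i (n i a) = n i a)
    (s : Finset ι) : ∀ v ∈ ⨆ i ∈ s, (n i).range, (∀ i ∈ s, n i v = 1) → v = 1 := by
  classical
  induction s using Finset.induction_on with
  | empty => intro v hv _; simpa using hv
  | insert i s his ih =>
    intro v hv hn
    rw [Finset.iSup_insert] at hv
    obtain ⟨_, ⟨a, rfl⟩, w, hw, rfl⟩ := Subgroup.mem_sup.mp hv
    have h1 : n i (n i a * w) = 1 := hn i (Finset.mem_insert_self i s)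
    rw [map_mul, hi] at h1
    have h2 : n i a = (n i w)⁻¹ := eq_inv_of_mul_eq_one_left h1
    have h3 : n i w ∈ ⨆ j ∈ s, (n j).range := by
      have : ⨆ j ∈ s, (n j).range ≤ (⨆ j ∈ s, (n j).range).comap (n i) := by
        refine iSup₂_le fun j hj => ?_
        rintro _ ⟨b, rfl⟩
        rw [Subgroup.mem_comap, hc]
        exact (le_iSup₂ (f := fun j (_ : j ∈ s) => (n j).range) j hj) ⟨n i b, rfl⟩
      exact this hw
    refine ih _ ?_ (fun j hj => hn j (Finset.mem_insert_of_mem hj))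
    rw [h2]
    exact mul_mem (inv_mem h3) hw

/-- The sum of the isotypic parts which miss the type `{l}`. -/
def Nm [Fintype ι] [DecidableEq ι] (n : ι → A →* A) (l : ι) : Subgroup A :=
  (n l).ker ⊔ ⨆ i ∈ Finset.univ.erase l, (n i).range

theorem eq_one_of_mem_Nm [Fintype ι] [DecidableEq ι] (hc : ∀ i j a, n i (n j a) = n j (n i a))
    (hi : ∀ i a, n i (n i a) = n i a) {z : A}
    (hz : ∀ l, z * (n l z)⁻¹ ∈ ⨆ i ∈ Finset.univ.erase l, (n i).range)
    (ho : ∀ i l, i ≠ l → n i (n l z) = 1) (hz1 : (∀ l, n l z = 1) → z = 1)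
    (h : ∀ l, z ∈ Nm n l) : z = 1 := by
  refine hz1 fun l => ?_
  have h1 : n l z ∈ Nm n l := by
    have h2 : (z * (n l z)⁻¹)⁻¹ * z ∈ Nm n l :=
      mul_mem (inv_mem (mem_sup_right (hz l))) (h l)
    have h3 : (z * (n l z)⁻¹)⁻¹ * z = n l z := by group
    rwa [h3] at h2
  obtain ⟨c, hc', d, hd, hcd⟩ := Subgroup.mem_sup.mp h1
  have h4 : n l z = n l d := by
    rw [← hi, ← hcd, map_mul, MonoidHom.mem_ker.mp hc', one_mul]
  have h5 : n l d ∈ ⨆ i ∈ Finset.univ.erase l, (n i).range := by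
    have : ⨆ j ∈ Finset.univ.erase l, (n j).range ≤
        (⨆ j ∈ Finset.univ.erase l, (n j).range).comap (n l) := by
      refine iSup₂_le fun j hj => ?_
      rintro _ ⟨b, rfl⟩
      rw [Subgroup.mem_comap, hc]
      exact (le_iSup₂ (f := fun j (_ : j ∈ Finset.univ.erase l) => (n j).range) j hj) ⟨n l b, rfl⟩
    exact this hd
  refine idem_eq_one hc hi (Finset.univ.erase l) _ (by rw [h4]; exact h5) ?_
  intro i hi'
  exact ho i l (Finset.ne_of_mem_erase hi')

end Idem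

/-! ### Order 3 on a four-group -/

variable {G : Type u} [Group G]

theorem four_all [Finite G] {U : Subgroup G} (h4 : Nat.card U = 4) (hsq : ∀ u ∈ U, u * u = 1)
    {a b : G} (ha : a ∈ U) (hb : b ∈ U) (ha1 : a ≠ 1) (hb1 : b ≠ 1) (hab : a ≠ b) :
    ∀ v ∈ U, v = 1 ∨ v = a ∨ v = b ∨ v = a * b := by
  classical
  have := Fintype.ofFinite U
  intro v hv
  by_contra hcon
  push Not at hcon
  obtain ⟨c1, c2, c3, c4⟩ := hcon
  have hab1 : a * b ≠ 1 := fun h => hab (by
    have := eq_inv_of_mul_eq_one_left h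
    rw [inv_eq_of_mul_eq_one_right (hsq b hb)] at this
    exact this)
  have hs : ({(⟨1, one_mem _⟩ : U), ⟨a, ha⟩, ⟨b, hb⟩, ⟨a * b, mul_mem ha hb⟩, ⟨v, hv⟩} :
      Finset U).card = 5 := by
    rw [Finset.card_insert_of_notMem, Finset.card_insert_of_notMem, Finset.card_insert_of_notMem,
      Finset.card_insert_of_notMem, Finset.card_singleton]
    · simp only [Finset.mem_singleton, Subtype.mk.injEq]
      exact fun h => c4 h.symm
    · simp only [Finset.mem_insert, Finset.mem_singleton, Subtype.mk.injEq, not_or]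
      exact ⟨fun h => ha1 (by
        have : 1 * b = a * b := by rw [one_mul]; exact h
        exact (mul_right_cancel this).symm), fun h => c3 h.symm⟩
    · simp only [Finset.mem_insert, Finset.mem_singleton, Subtype.mk.injEq, not_or]
      exact ⟨hab, fun h => hb1 (by
        have : a * 1 = a * b := by rw [mul_one]; exact h
        exact (mul_left_cancel this).symm), fun h => c2 h.symm⟩
    · simp only [Finset.mem_insert, Finset.mem_singleton, Subtype.mk.injEq, not_or]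
      exact ⟨fun h => ha1 h.symm, fun h => hb1 h.symm, fun h => hab1 h.symm, fun h => c1 h.symm⟩
  have h5 : Fintype.card U = 4 := by rw [← Nat.card_eq_fintype_card]; exact h4
  have h6 := Finset.card_le_univ ({(⟨1, one_mem _⟩ : U), ⟨a, ha⟩, ⟨b, hb⟩,
    ⟨a * b, mul_mem ha hb⟩, ⟨v, hv⟩} : Finset U)
  omega

/-- `e` of order 3 on the four-group `U` moves the elements `a ≠ 1` as `a → b → ab → a`. -/
theorem three_cycle {U : Subgroup G} (hsq : ∀ u ∈ U, u * u = 1)
    (hc : ∀ u ∈ U, ∀ v ∈ U, u * v = v * u) {e : G} (hen : e ∈ normalizer (U : Set G))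
    (he : Three U e) {a : G} (ha : a ∈ U) (ha1 : a ≠ 1) :
    e * a * e⁻¹ ≠ 1 ∧ a ≠ e * a * e⁻¹ ∧ e * (e * a * e⁻¹) * e⁻¹ = a * (e * a * e⁻¹) ∧
      e * (a * (e * a * e⁻¹)) * e⁻¹ = a := by
  have hb : e * a * e⁻¹ ∈ U := conj_mem hen ha
  have h3 := he a ha
  set b := e * a * e⁻¹ with hbd
  have hb1 : b ≠ 1 := by
    intro h
    apply ha1
    have : a = e⁻¹ * b * e := by rw [hbd]; group
    rw [this, h]; group
  have hab : a ≠ b := by
    intro hab
    have h4 : e * b * e⁻¹ = b := by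
      conv_lhs => rw [← hab]
    rw [h4, ← hab, hsq a ha, one_mul] at h3
    exact ha1 h3
  have hebe : e * b * e⁻¹ = a * b := by
    have h5 : (a * b) * (a * b) = 1 := hsq _ (mul_mem ha hb)
    have h6 : (a * b) * (e * b * e⁻¹) = (a * b) * (a * b) := by rw [h5]; exact h3
    exact mul_left_cancel h6
  refine ⟨hb1, hab, hebe, ?_⟩
  have h5 : e * (a * b) * e⁻¹ = (e * a * e⁻¹) * (e * b * e⁻¹) := by group
  rw [h5, ← hbd, hebe, ← mul_assoc, hc b hb a ha, mul_assoc, hsq b hb, mul_one]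

/-- Two elements of order 3 on a four-group `U` are equal or inverse on `U`. -/
theorem three_cases [Finite G] {U : Subgroup G} (h4 : Nat.card U = 4) (hsq : ∀ u ∈ U, u * u = 1)
    (hc : ∀ u ∈ U, ∀ v ∈ U, u * v = v * u) {e f : G} (hen : e ∈ normalizer (U : Set G))
    (he : Three U e) (hfn : f ∈ normalizer (U : Set G)) (hf : Three U f) :
    (∀ v ∈ U, f * v * f⁻¹ = e * v * e⁻¹) ∨ (∀ v ∈ U, f * v * f⁻¹ = e⁻¹ * v * e) := by
  have hU1 : U ≠ ⊥ := by
    rintro rfl
    rw [card_bot] at h4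
    omega
  obtain ⟨a, ha, ha1⟩ := (Subgroup.ne_bot_iff_exists_ne_one (H := U)).mp hU1 |>.elim
    fun a ha => (⟨a, a.2, fun h => ha (Subtype.ext h)⟩ : ∃ a ∈ U, a ≠ 1)
  obtain ⟨hb1, hab, eb, eab⟩ := three_cycle hsq hc hen he ha ha1
  obtain ⟨fb1, hfab, fb, fab⟩ := three_cycle hsq hc hfn hf ha ha1
  have hb : e * a * e⁻¹ ∈ U := conj_mem hen ha
  have hfb : f * a * f⁻¹ ∈ U := conj_mem hfn ha
  have hall := four_all h4 hsq ha hb ha1 hb1 hab
  have ea : e * a * e⁻¹ = e * a * e⁻¹ := rfl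
  set b := e * a * e⁻¹ with hbd
  rcases hall _ hfb with h | h | h | h
  · exact absurd h fb1
  · exact absurd h.symm hfab
  · left
    rw [h] at fb fab
    intro v hv
    rcases hall v hv with rfl | rfl | rfl | rfl
    · group
    · rw [h]
    · rw [fb, eb]
    · rw [fab, eab]
  · right
    rw [h] at fb fab
    have ia : e⁻¹ * a * e = a * b := by
      have : e⁻¹ * (e * (a * b) * e⁻¹) * e = a * b := by group
      rwa [eab] at this
    have ib : e⁻¹ * b * e = a := by rw [hbd]; group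
    have iab : e⁻¹ * (a * b) * e = b := by
      have : e⁻¹ * (e * b * e⁻¹) * e = b := by group
      rwa [eb] at this
    have h5 : a * (a * b) = b := by rw [← mul_assoc, hsq a ha, one_mul]
    rw [h5] at fb fab
    intro v hv
    rcases hall v hv with rfl | rfl | rfl | rfl
    · group
    · rw [h, ia]
    · rw [fab, ib]
    · rw [fb, iab]

/-! ### Groups of odd order on `Ω₁ Z(Q)` -/

instance zc_isMulCommutative (Q : Subgroup G) : IsMulCommutative (zc Q) :=
  IsMulCommutative.of_comm fun a b => Subtype.ext (zc_comm Q a a.2 b b.2)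

/-- `C ⊴ P` with `|C : Q|` odd centralises `Ω₁ Z(Q)` if it centralises the only `S`-fixed involution. -/
theorem le_centralizer_of_odd [Finite G] {S P Q C : Subgroup G} {z : G}
    (hSP : S ≤ P) (hS : IsPGroup 2 S) (hPQ : P ≤ normalizer (Q : Set G))
    (hPC : P ≤ normalizer (C : Set G)) (hCP : C ≤ P)
    (hodd : ¬ 2 ∣ Q.relIndex C) (hfix : ∀ a ∈ zc Q, (∀ s ∈ S, s * a = a * s) → a = 1 ∨ a = z)
    (hz : ∀ c ∈ C, c * z = z * c) : C ≤ centralizer (zc Q : Set G) := by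
  classical
  have hPA : P ≤ normalizer (zc Q : Set G) := hPQ.trans (normalizer_le_normalizer_zc Q)
  have hBA : ⁅zc Q, C⁆ ≤ zc Q := by
    rw [commutator_le]
    intro a ha c hc
    have h1 : c * a⁻¹ * c⁻¹ ∈ zc Q := conj_mem (hPA (hCP hc)) (inv_mem ha)
    have h2 : ⁅a, c⁆ = a * (c * a⁻¹ * c⁻¹) := by rw [commutatorElement_def]; group
    rw [h2]
    exact mul_mem ha h1
  rw [le_centralizer_iff, ← commutator_eq_bot_iff_le_centralizer]
  by_contra hne
  have hPB : P ≤ normalizer ((⁅zc Q, C⁆ : Subgroup G) : Set G) := by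
    intro g hg
    refine Count.mem_norm ?_
    have : ⁅zc Q, C⁆ ≤ (⁅zc Q, C⁆ : Subgroup G).comap (MulAut.conj g).toMonoidHom := by
      rw [commutator_le]
      intro a ha c hc
      rw [mem_comap, map_commutatorElement]
      exact commutator_mem_commutator (conj_mem (hPA hg) ha) (conj_mem (hPC hg) hc)
    exact fun x hx => this hx
  have hA2 : IsPGroup 2 (zc Q) := by
    rintro ⟨a, ha⟩
    exact ⟨1, Subtype.ext (by simpa using zc_sq Q a ha)⟩
  obtain ⟨v, hv, hv1, hvf⟩ := Half.exists_fixed (hA2.to_le hBA) hne hS (hSP.trans hPB)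
  have hvz : v = z := by
    rcases hfix v (hBA hv) (fun s hs => by
      calc s * v = s * v * s⁻¹ * s := by group
        _ = v * s := by rw [hvf s hs]) with h | h
    · exact absurd h hv1
    · exact h
  -- the norm map
  let ψ : C →* MulAut (zc Q) :=
    (normalizerMonoidHom (zc Q)).comp (Subgroup.inclusion (hCP.trans hPA))
  have hψ : ∀ (c : C) (a : zc Q), ((ψ c a : zc Q) : G) = c * a * (c : G)⁻¹ := fun c a => rfl
  let Qs : Subgroup C := Q.subgroupOf C
  have hnQ : Qs.Normal := normal_subgroupOf_of_le_normalizer (hCP.trans hPQ)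
  have hQs : ∀ c ∈ Qs, ψ c = 1 := by
    intro c hc
    ext a
    rw [hψ]
    have h1 := (mem_zc.mp a.2).2.1 c (mem_subgroupOf.mp hc)
    rw [h1]
    simp
  have : Fintype (C ⧸ Qs) := Fintype.ofFinite _
  let N : zc Q →* zc Q :=
    { toFun := fun a => ∏ q : C ⧸ Qs, ψ q.out a
      map_one' := by simp
      map_mul' := by intro a b; simp [Finset.prod_mul_distrib] }
  have hN : ∀ a, N a = ∏ q : C ⧸ Qs, ψ q.out a := fun a => rfl
  have hNc : ∀ (c : C) (a : zc Q), N (ψ c a) = N a := by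
    intro c a
    rw [hN, hN]
    refine Fintype.prod_equiv (Equiv.mulRight (QuotientGroup.mk c : C ⧸ Qs)) _ _ ?_
    intro q
    change _ = ψ (Quotient.out (q * (QuotientGroup.mk c : C ⧸ Qs))) a
    have h1 : q * (QuotientGroup.mk c : C ⧸ Qs) = QuotientGroup.mk (q.out * c) := by
      rw [QuotientGroup.mk_mul, QuotientGroup.out_eq']
    obtain ⟨h, hh⟩ := QuotientGroup.mk_out_eq_mul Qs (q.out * c)
    rw [h1, hh, map_mul, map_mul, hQs h h.2, mul_one, MulAut.mul_apply]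
  have hker : ⁅zc Q, C⁆ ≤ N.ker.map (zc Q).subtype := by
    rw [commutator_le]
    intro a ha c hc
    refine ⟨(⟨a, ha⟩ : zc Q) * ψ ⟨c, hc⟩ (⟨a, ha⟩ : zc Q)⁻¹, ?_, ?_⟩
    · rw [SetLike.mem_coe, MonoidHom.mem_ker, map_mul, hNc, map_inv, mul_inv_cancel]
    · rw [Subgroup.coe_subtype, Subgroup.coe_mul, hψ, commutatorElement_def]
      push_cast
      group
  obtain ⟨w, hw, hwv⟩ := hker hv
  have hwz : (w : G) = z := hwv.trans hvz
  have hNw : N w = w := by
    have h1 : ∀ q : C ⧸ Qs, ψ q.out w = w := by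
      intro q
      ext
      rw [hψ, hwz, hz _ (q.out).2]
      group
    rw [hN, Finset.prod_congr rfl (fun q _ => h1 q), Finset.prod_const, Finset.card_univ,
      ← Nat.card_eq_fintype_card]
    have h2 : ¬ 2 ∣ Nat.card (C ⧸ Qs) := hodd
    obtain ⟨k, hk⟩ : Odd (Nat.card (C ⧸ Qs)) := by
      rw [← Nat.not_even_iff_odd, even_iff_two_dvd]; exact h2
    have h3 : w ^ 2 = 1 := Subtype.ext (by simpa using zc_sq Q w w.2)
    rw [hk, pow_add, pow_mul, h3, one_pow, one_mul, pow_one]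
  rw [MonoidHom.mem_ker.mp hw] at hNw
  apply hv1
  rw [hvz, ← hwz, ← hNw]
  rfl

/-! ### The blocks -/

/-- One side, `q = 2`: `A = Ω₁ Z(Q) = zc Q` with `Q = O₂(P)`, blocks `V l` of order 4 permuted by `P` and
transitively by `S`, `x l` of order 3 on `V l` and trivial on the other blocks, `C_A(S) = ⟨z⟩`. -/
structure Blk {ι : Type*} (S P Q : Subgroup G) (V : ι → Subgroup G) (x : ι → G) (z : G) : Prop where
  SP : S ≤ P
  S2 : IsPGroup 2 S
  QS : Q ≤ S
  PQ : P ≤ normalizer (Q : Set G)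
  VA : ∀ l, V l ≤ zc Q
  four : ∀ l, Nat.card (V l) = 4
  perm : ∀ g ∈ P, ∀ l, ∃ m, (V l).map (MulAut.conj g).toMonoidHom = V m
  inj : ∀ l m, V l = V m → l = m
  tr : ∀ l m, ∃ s ∈ S, (V l).map (MulAut.conj s).toMonoidHom = V m
  xP : ∀ l, x l ∈ P
  xn : ∀ l, x l ∈ normalizer (V l : Set G)
  x3 : ∀ l, Three (V l) (x l)
  xc : ∀ l i, i ≠ l → ∀ v ∈ V i, x l * v = v * x l
  ker : ∀ g ∈ P, (∀ l, ∀ v ∈ V l, g * v = v * g) → ∀ a ∈ zc Q, g * a = a * g
  fix : ∀ a ∈ zc Q, (∀ s ∈ S, s * a = a * s) → a = 1 ∨ a = z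
  zS : ∀ s ∈ S, s * z = z * s
  z1 : z ≠ 1
  zV : z ∈ ⨆ l, V l

namespace Blk

variable {ι : Type*} {S P Q : Subgroup G} {V : ι → Subgroup G} {x : ι → G} {z : G}

section
variable (B : Blk S P Q V x z)
include B

theorem PA : P ≤ normalizer (zc Q : Set G) := B.PQ.trans (normalizer_le_normalizer_zc Q)

theorem sq {l : ι} {v : G} (hv : v ∈ V l) : v * v = 1 := by
  have := zc_sq Q v (B.VA l hv)
  rwa [pow_two] at this

theorem comm {i l : ι} {u v : G} (hu : u ∈ V i) (hv : v ∈ V l) : u * v = v * u :=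
  zc_comm Q u (B.VA i hu) v (B.VA l hv)

end

/-- conjugation by `g ∈ P` on `A = zc Q`. -/
def cj (B : Blk S P Q V x z) (g : P) : zc Q →* zc Q :=
  (normalizerMonoidHom (zc Q) ⟨g, B.PA g.2⟩).toMonoidHom

theorem cj_coe (B : Blk S P Q V x z) (g : P) (a : zc Q) :
    ((B.cj g a : zc Q) : G) = g * a * (g : G)⁻¹ := rfl

/-- the projection onto `[A, x l]`. -/
def nh (B : Blk S P Q V x z) (l : ι) : zc Q →* zc Q :=
  B.cj ⟨x l, B.xP l⟩ * B.cj (⟨x l, B.xP l⟩ : P)⁻¹

theorem nh_coe (B : Blk S P Q V x z) (l : ι) (a : zc Q) :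
    ((B.nh l a : zc Q) : G) = x l * a * (x l)⁻¹ * ((x l)⁻¹ * a * x l) := by
  change ((B.cj ⟨x l, B.xP l⟩ a * B.cj (⟨x l, B.xP l⟩ : P)⁻¹ a : zc Q) : G) = _
  rw [Subgroup.coe_mul, cj_coe, cj_coe]
  simp

section
variable (B : Blk S P Q V x z)
include B

theorem cj_mul (g h : P) (a : zc Q) : B.cj (g * h) a = B.cj g (B.cj h a) := by
  apply Subtype.ext
  rw [cj_coe, cj_coe, cj_coe]
  push_cast
  group

/-- elements of `P` which agree on the blocks agree on `A`. -/
theorem cj_eq {g h : P} (hgh : ∀ l, ∀ v ∈ V l, (g : G) * v * (g : G)⁻¹ = h * v * (h : G)⁻¹) :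
    B.cj g = B.cj h := by
  ext a
  rw [cj_coe, cj_coe]
  have h1 := B.ker ((h : G)⁻¹ * g) (mul_mem (inv_mem h.2) g.2) (by
    intro l v hv
    calc (h : G)⁻¹ * g * v = (h : G)⁻¹ * (g * v * (g : G)⁻¹) * g := by group
      _ = (h : G)⁻¹ * (h * v * (h : G)⁻¹) * g := by rw [hgh l v hv]
      _ = v * ((h : G)⁻¹ * g) := by group) a a.2
  calc (g : G) * a * (g : G)⁻¹ = h * ((h : G)⁻¹ * g * a) * (g : G)⁻¹ := by group
    _ = h * (a * ((h : G)⁻¹ * g)) * (g : G)⁻¹ := by rw [h1]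
    _ = h * a * (h : G)⁻¹ := by group

/-- `x l` as an element of `P`. -/
theorem cj_three (l : ι) (a : zc Q) :
    B.cj ⟨x l, B.xP l⟩ (B.cj ⟨x l, B.xP l⟩ (B.cj ⟨x l, B.xP l⟩ a)) = a := by
  rw [← cj_mul, ← cj_mul, B.cj_eq (h := 1)]
  · apply Subtype.ext
    rw [cj_coe]
    simp
  · intro i v hv
    by_cases hi : i = l
    · subst hi
      have h1 := Count.cube_of_three (B.xn i) (B.x3 i) (fun u hu w hw => B.comm hu hw) hv
      calc ((⟨x i, B.xP i⟩ * ⟨x i, B.xP i⟩ * ⟨x i, B.xP i⟩ : P) : G) * v *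
            ((⟨x i, B.xP i⟩ * ⟨x i, B.xP i⟩ * ⟨x i, B.xP i⟩ : P) : G)⁻¹
          = x i * (x i * (x i * v * (x i)⁻¹) * (x i)⁻¹) * (x i)⁻¹ := by push_cast; group
        _ = v := h1
        _ = ((1 : P) : G) * v * ((1 : P) : G)⁻¹ := by simp
    · have h1 : x l * v * (x l)⁻¹ = v := by rw [B.xc l i hi v hv]; group
      calc ((⟨x l, B.xP l⟩ * ⟨x l, B.xP l⟩ * ⟨x l, B.xP l⟩ : P) : G) * v *
            ((⟨x l, B.xP l⟩ * ⟨x l, B.xP l⟩ * ⟨x l, B.xP l⟩ : P) : G)⁻¹
          = x l * (x l * (x l * v * (x l)⁻¹) * (x l)⁻¹) * (x l)⁻¹ := by push_cast; group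
        _ = v := by rw [h1, h1, h1]
        _ = ((1 : P) : G) * v * ((1 : P) : G)⁻¹ := by simp

theorem cj_inv (g : P) (a : zc Q) : B.cj g⁻¹ (B.cj g a) = a := by
  rw [← cj_mul]
  apply Subtype.ext
  rw [cj_coe]
  simp

theorem cj_inv' (g : P) (a : zc Q) : B.cj g (B.cj g⁻¹ a) = a := by
  rw [← cj_mul]
  apply Subtype.ext
  rw [cj_coe]
  simp

theorem cj_xinv (l : ι) (a : zc Q) :
    B.cj (⟨x l, B.xP l⟩ : P)⁻¹ a = B.cj ⟨x l, B.xP l⟩ (B.cj ⟨x l, B.xP l⟩ a) := by
  conv_lhs => rw [← B.cj_three l a]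
  rw [cj_inv]

theorem nh_apply (l : ι) (a : zc Q) :
    B.nh l a = B.cj ⟨x l, B.xP l⟩ a * B.cj ⟨x l, B.xP l⟩ (B.cj ⟨x l, B.xP l⟩ a) := by
  rw [← B.cj_xinv]
  rfl

omit B in
theorem sq_zc (a : zc Q) : a * a = 1 := by
  apply Subtype.ext
  have := zc_sq Q a a.2
  rwa [pow_two] at this

theorem nh_idem (l : ι) (a : zc Q) : B.nh l (B.nh l a) = B.nh l a := by
  rw [B.nh_apply l (B.nh l a), B.nh_apply l a, map_mul, map_mul, B.cj_three]
  set u := B.cj ⟨x l, B.xP l⟩ a
  set v := B.cj ⟨x l, B.xP l⟩ u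
  have h1 : a * a = 1 := sq_zc a
  rw [mul_assoc, ← mul_assoc a a u, h1, one_mul, mul_comm]

theorem cj_comm (i l : ι) (a : zc Q) :
    B.cj ⟨x i, B.xP i⟩ (B.cj ⟨x l, B.xP l⟩ a) = B.cj ⟨x l, B.xP l⟩ (B.cj ⟨x i, B.xP i⟩ a) := by
  by_cases hil : i = l
  · subst hil; rfl
  rw [← cj_mul, ← cj_mul, B.cj_eq (h := ⟨x l, B.xP l⟩ * ⟨x i, B.xP i⟩)]
  intro j v hv
  have key : ∀ i l, i ≠ l → ∀ v ∈ V i, x i * (x l * v * (x l)⁻¹) * (x i)⁻¹ =
      x l * (x i * v * (x i)⁻¹) * (x l)⁻¹ := by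
    intro i l hil v hv
    rw [B.xc l i hil v hv, B.xc l i hil _ (conj_mem (B.xn i) hv)]
    group
  have e1 : ∀ i l (v : G), ((⟨x i, B.xP i⟩ * ⟨x l, B.xP l⟩ : P) : G) * v *
      ((⟨x i, B.xP i⟩ * ⟨x l, B.xP l⟩ : P) : G)⁻¹ = x i * (x l * v * (x l)⁻¹) * (x i)⁻¹ := by
    intro i l v
    push_cast
    group
  rw [e1, e1]
  by_cases hji : j = i
  · subst hji
    exact key j l hil v hv
  · by_cases hjl : j = l
    · subst hjl
      exact (key j i (Ne.symm hil) v hv).symm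
    · rw [B.xc l j hjl v hv, B.xc i j hji v hv]
      have h2 : v * x l * (x l)⁻¹ = v := by group
      have h3 : v * x i * (x i)⁻¹ = v := by group
      rw [h2, h3, B.xc l j hjl v hv, B.xc i j hji v hv]
      group

theorem nh_comm (i l : ι) (a : zc Q) : B.nh i (B.nh l a) = B.nh l (B.nh i a) := by
  have h1 := fun b => B.cj_comm i l b
  simp only [B.nh_apply, map_mul, h1]
  exact mul_mul_mul_comm _ _ _ _

omit B in
theorem mem_of_map {g : G} {l m : ι} (h : (V l).map (MulAut.conj g).toMonoidHom = V m) {u : G}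
    (hu : u ∈ V l) : g * u * g⁻¹ ∈ V m := by
  rw [← h]
  exact ⟨u, hu, by simp⟩

omit B in
theorem mem_of_map' {g : G} {l m : ι} (h : (V l).map (MulAut.conj g).toMonoidHom = V m) {v : G}
    (hv : v ∈ V m) : g⁻¹ * v * g ∈ V l := by
  rw [← h] at hv
  obtain ⟨u, hu, rfl⟩ := hv
  have : g⁻¹ * (MulAut.conj g).toMonoidHom u * g = u := by simp [mul_assoc]
  rw [this]
  exact hu

omit B in
theorem map_inv_of_map {g : G} {l m : ι} (h : (V l).map (MulAut.conj g).toMonoidHom = V m) :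
    (V m).map (MulAut.conj g⁻¹).toMonoidHom = V l := by
  apply le_antisymm
  · rintro _ ⟨v, hv, rfl⟩
    have := mem_of_map' h hv
    simpa using this
  · intro u hu
    exact ⟨g * u * g⁻¹, mem_of_map h hu, by simp [mul_assoc]⟩

/-- the conjugate of `x l` by `g ∈ P` acts on `A` as `x m` or `(x m)⁻¹`. -/
theorem cj_conj_x [Finite G] {g : P} {l m : ι}
    (h : (V l).map (MulAut.conj (g : G)).toMonoidHom = V m) :
    B.cj (g * ⟨x l, B.xP l⟩ * g⁻¹) = B.cj ⟨x m, B.xP m⟩ ∨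
      B.cj (g * ⟨x l, B.xP l⟩ * g⁻¹) = B.cj (⟨x m, B.xP m⟩ : P)⁻¹ := by
  -- the conjugate of `x l`
  have hfn : (g : G) * x l * (g : G)⁻¹ ∈ normalizer (V m : Set G) := by
    refine Count.mem_norm fun v hv => ?_
    have h1 := mem_of_map h (conj_mem (B.xn l) (mem_of_map' h hv))
    have h2 : (g : G) * (x l * ((g : G)⁻¹ * v * g) * (x l)⁻¹) * (g : G)⁻¹ =
        (g : G) * x l * (g : G)⁻¹ * v * ((g : G) * x l * (g : G)⁻¹)⁻¹ := by group
    rwa [h2] at h1
  have hf3 : Three (V m) ((g : G) * x l * (g : G)⁻¹) := by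
    intro v hv
    have h1 := B.x3 l _ (mem_of_map' h hv)
    have h2 : v * ((g : G) * x l * (g : G)⁻¹ * v * ((g : G) * x l * (g : G)⁻¹)⁻¹) *
        ((g : G) * x l * (g : G)⁻¹ * ((g : G) * x l * (g : G)⁻¹ * v * ((g : G) * x l * (g : G)⁻¹)⁻¹) *
          ((g : G) * x l * (g : G)⁻¹)⁻¹) =
        (g : G) * (((g : G)⁻¹ * v * g) * (x l * ((g : G)⁻¹ * v * g) * (x l)⁻¹) *
          (x l * (x l * ((g : G)⁻¹ * v * g) * (x l)⁻¹) * (x l)⁻¹)) * (g : G)⁻¹ := by group
    rw [h2, h1]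
    group
  -- trivial on the other blocks
  have hoth : ∀ i, i ≠ m → ∀ v ∈ V i, (g : G) * x l * (g : G)⁻¹ * v * ((g : G) * x l * (g : G)⁻¹)⁻¹ = v := by
    intro i hi v hv
    obtain ⟨i', hi'⟩ := B.perm (g : G)⁻¹ (inv_mem g.2) i
    have hne : i' ≠ l := by
      rintro rfl
      apply hi
      have h1 := map_inv_of_map hi'
      rw [inv_inv] at h1
      exact B.inj _ _ (h1.symm.trans h)
    have h1 : (g : G)⁻¹ * v * g ∈ V i' := by
      have := mem_of_map hi' hv
      rwa [inv_inv] at this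
    have h2 := B.xc l i' hne _ h1
    calc (g : G) * x l * (g : G)⁻¹ * v * ((g : G) * x l * (g : G)⁻¹)⁻¹
        = (g : G) * (x l * ((g : G)⁻¹ * v * g)) * (x l)⁻¹ * (g : G)⁻¹ := by group
      _ = (g : G) * (((g : G)⁻¹ * v * g) * x l) * (x l)⁻¹ * (g : G)⁻¹ := by rw [h2]
      _ = v := by group
  have hoth2 : ∀ i, i ≠ m → ∀ v ∈ V i, x m * v * (x m)⁻¹ = v := by
    intro i hi v hv
    rw [B.xc m i hi v hv]; group
  have hoth3 : ∀ i, i ≠ m → ∀ v ∈ V i, (x m)⁻¹ * v * (x m) = v := by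
    intro i hi v hv
    have h1 := B.xc m i hi v hv
    rw [mul_assoc, ← h1]; group
  rcases three_cases (B.four m) (fun u hu => B.sq hu) (fun u hu v hv => B.comm hu hv) (B.xn m)
    (B.x3 m) hfn hf3 with hc | hc
  · left
    refine B.cj_eq ?_
    intro i v hv
    by_cases him : i = m
    · subst him
      exact hc v hv
    · exact (hoth i him v hv).trans (hoth2 i him v hv).symm
  · right
    refine B.cj_eq ?_
    intro i v hv
    have h3 : (((⟨x m, B.xP m⟩ : P)⁻¹ : P) : G) * v * (((⟨x m, B.xP m⟩ : P)⁻¹ : P) : G)⁻¹ =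
        (x m)⁻¹ * v * x m := by push_cast; group
    rw [h3]
    by_cases him : i = m
    · subst him
      exact hc v hv
    · exact (hoth i him v hv).trans (hoth3 i him v hv).symm

/-- equivariance of the projections. -/
theorem cj_nh [Finite G] {g : P} {l m : ι} (h : (V l).map (MulAut.conj (g : G)).toMonoidHom = V m)
    (a : zc Q) : B.cj g (B.nh l a) = B.nh m (B.cj g a) := by
  have e0 : B.cj g (B.cj (⟨x l, B.xP l⟩ : P) a) = B.cj (g * ⟨x l, B.xP l⟩ * g⁻¹) (B.cj g a) := by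
    rw [← cj_mul, ← cj_mul]; congr 1; group
  have e1 : B.cj g (B.cj (⟨x l, B.xP l⟩ : P)⁻¹ a) = B.cj (g * ⟨x l, B.xP l⟩ * g⁻¹)⁻¹ (B.cj g a) := by
    rw [← cj_mul, ← cj_mul]; congr 1; group
  have e2 : B.cj g (B.nh l a) = B.cj (g * ⟨x l, B.xP l⟩ * g⁻¹) (B.cj g a) *
      B.cj (g * ⟨x l, B.xP l⟩ * g⁻¹)⁻¹ (B.cj g a) := by
    rw [← e0, ← e1, ← map_mul]
    rfl
  have einv : ∀ p q : P, B.cj p = B.cj q → B.cj p⁻¹ = B.cj q⁻¹ := by
    intro p q hpq
    ext b
    have h1 : B.cj p⁻¹ b = B.cj q⁻¹ b := by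
      conv_lhs => rw [← B.cj_inv' q b, ← hpq]
      rw [cj_inv]
    rw [h1]
  rcases B.cj_conj_x h with h1 | h1
  · rw [e2, einv _ _ h1, h1]
    rfl
  · rw [e2, einv _ _ h1, h1, inv_inv, mul_comm]
    rfl

/-- `nh l` is the identity on `V l`. -/
theorem nh_self {l : ι} {v : zc Q} (hv : (v : G) ∈ V l) : B.nh l v = v := by
  apply Subtype.ext
  rw [nh_coe]
  have h3 := B.x3 l v hv
  have h4 := Count.cube_of_three (B.xn l) (B.x3 l) (fun u hu w hw => B.comm hu hw) hv
  have h5 : (x l)⁻¹ * (v : G) * x l = x l * (x l * v * (x l)⁻¹) * (x l)⁻¹ := by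
    conv_lhs => rw [← h4]
    group
  rw [h5]
  have h6 : (v : G) * v = 1 := B.sq hv
  have h7 : (v : G) * (v * ((x l * v * (x l)⁻¹) * (x l * (x l * v * (x l)⁻¹) * (x l)⁻¹))) = v := by
    rw [← mul_assoc (v : G) (x l * v * (x l)⁻¹), h3, mul_one]
  rw [← mul_assoc, h6, one_mul] at h7
  exact h7

/-- `nh l` is trivial on `V i`, `i ≠ l`. -/
theorem nh_other {i l : ι} (hil : i ≠ l) {v : zc Q} (hv : (v : G) ∈ V i) : B.nh l v = 1 := by
  apply Subtype.ext
  rw [nh_coe]
  have h1 := B.xc l i hil v hv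
  have h2 : x l * (v : G) * (x l)⁻¹ = v := by rw [h1]; group
  have h3 : (x l)⁻¹ * (v : G) * x l = v := by rw [mul_assoc, ← h1]; group
  rw [h2, h3]
  exact B.sq hv

/-- `nh l a = 1` iff `x l` centralises `a`. -/
theorem nh_eq_one {l : ι} {a : zc Q} : B.nh l a = 1 ↔ x l * (a : G) = a * x l := by
  constructor
  · intro h
    rw [nh_apply] at h
    have h1 := congrArg (B.cj ⟨x l, B.xP l⟩) h
    rw [map_one, map_mul, B.cj_three] at h1
    have h2 : B.cj ⟨x l, B.xP l⟩ (B.cj ⟨x l, B.xP l⟩ a) = a⁻¹ := eq_inv_of_mul_eq_one_left h1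
    have h3 : a⁻¹ = a := inv_eq_of_mul_eq_one_right (sq_zc a)
    rw [h3] at h2
    have h4 : B.cj ⟨x l, B.xP l⟩ a = a := by
      conv_lhs => rw [← h2]
      exact B.cj_three l a
    have h5 : x l * (a : G) * (x l)⁻¹ = a := congrArg Subtype.val h4
    calc x l * (a : G) = x l * a * (x l)⁻¹ * x l := by group
      _ = a * x l := by rw [h5]
  · intro h
    apply Subtype.ext
    rw [nh_coe]
    have h2 : x l * (a : G) * (x l)⁻¹ = a := by rw [h]; group
    have h3 : (x l)⁻¹ * (a : G) * x l = a := by rw [mul_assoc, ← h]; group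
    rw [h2, h3]
    exact congrArg Subtype.val (sq_zc a)

omit B in
theorem of_V {K : Subgroup (zc Q)} (hV : ∀ l, V l ≤ zc Q) (h : ∀ i, ∀ v : zc Q, (v : G) ∈ V i → v ∈ K)
    {w : zc Q} (hw : (w : G) ∈ ⨆ l, V l) : w ∈ K := by
  have h1 : ⨆ l, V l ≤ K.map (zc Q).subtype := by
    refine iSup_le fun i v hv => ?_
    exact ⟨⟨v, hV i hv⟩, h i _ hv, rfl⟩
  obtain ⟨u, hu, huw⟩ := h1 hw
  have : u = w := Subtype.ext huw
  rwa [← this]

theorem zA : z ∈ zc Q := (iSup_le B.VA : ⨆ l, V l ≤ zc Q) B.zV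

/-- the whole of `⨅ Nm` is trivial. -/
theorem eq_one_of_Nm [Finite G] [Fintype ι] [DecidableEq ι] {b : zc Q} (hb : ∀ l, b ∈ Nm B.nh l) :
    b = 1 := by
  by_contra hb1
  set K : Subgroup (zc Q) := ⨅ l, Nm B.nh l with hK
  have hbK : b ∈ K := mem_iInf.mpr hb
  have hKb : K.map (zc Q).subtype ≠ ⊥ := by
    intro h
    have h1 : (b : G) ∈ K.map (zc Q).subtype := ⟨b, hbK, rfl⟩
    rw [h, mem_bot] at h1
    exact hb1 (Subtype.ext h1)
  have hA2 : IsPGroup 2 (zc Q) := by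
    rintro ⟨a, ha⟩
    exact ⟨1, Subtype.ext (by simpa using zc_sq Q a ha)⟩
  have hinv : ∀ g : P, ∀ b ∈ K, B.cj g b ∈ K := by
    intro g b hbK
    rw [hK, mem_iInf] at hbK ⊢
    intro m
    obtain ⟨l, hl⟩ := B.perm (g : G)⁻¹ (inv_mem g.2) m
    have hlm : (V l).map (MulAut.conj (g : G)).toMonoidHom = V m := by
      have := map_inv_of_map hl
      rwa [inv_inv] at this
    have h1 : Nm B.nh l ≤ (Nm B.nh m).comap (B.cj g) := by
      refine sup_le ?_ (iSup₂_le fun i hi => ?_)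
      · intro a ha
        refine mem_sup_left ?_
        rw [MonoidHom.mem_ker] at ha ⊢
        rw [← B.cj_nh hlm, ha, map_one]
      · rintro _ ⟨a, rfl⟩
        refine mem_sup_right ?_
        obtain ⟨i', hi'⟩ := B.perm g g.2 i
        rw [B.cj_nh hi']
        have hne : i' ≠ m := by
          rintro rfl
          apply Finset.ne_of_mem_erase hi
          have h2 := map_inv_of_map hi'
          rw [map_inv_of_map hlm] at h2
          exact (B.inj _ _ h2).symm
        exact (le_iSup₂ (f := fun j (_ : j ∈ Finset.univ.erase m) => (B.nh j).range) i'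
          (Finset.mem_erase.mpr ⟨hne, Finset.mem_univ _⟩)) ⟨_, rfl⟩
    exact h1 (hbK l)
  have hSK : S ≤ normalizer ((K.map (zc Q).subtype : Subgroup G) : Set G) := by
    intro s hs
    refine Count.mem_norm ?_
    rintro _ ⟨a, ha, rfl⟩
    exact ⟨B.cj ⟨s, B.SP hs⟩ a, hinv _ a ha, rfl⟩
  obtain ⟨v, ⟨v', hv', hvv⟩, hv1, hfix⟩ := Half.exists_fixed (hA2.to_le (map_subtype_le K)) hKb B.S2 hSK
  have hvz : v = z := by
    refine (B.fix v (hvv ▸ v'.2) fun s hs => ?_).resolve_left hv1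
    calc s * v = s * v * s⁻¹ * s := by group
      _ = v * s := by rw [hfix s hs]
  have hzz : v' = ⟨z, B.zA⟩ := Subtype.ext (hvv.trans hvz)
  subst hzz
  have hz1 : (⟨z, B.zA⟩ : zc Q) = 1 := by
    refine eq_one_of_mem_Nm (n := B.nh) B.nh_comm B.nh_idem (z := ⟨z, B.zA⟩) ?_ ?_ ?_ (mem_iInf.mp hv')
    · intro l
      have h1 : (⟨z, B.zA⟩ : zc Q) ∈ (⨆ i ∈ Finset.univ.erase l, (B.nh i).range).comap
          (MonoidHom.id (zc Q) * (B.nh l)⁻¹) := by
        refine of_V B.VA ?_ B.zV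
        intro i v hv
        rw [mem_comap]
        change v * (B.nh l v)⁻¹ ∈ _
        by_cases hil : i = l
        · subst hil
          rw [B.nh_self hv, mul_inv_cancel]
          exact one_mem _
        · rw [B.nh_other hil hv, inv_one, mul_one, ← B.nh_self hv]
          exact (le_iSup₂ (f := fun j (_ : j ∈ Finset.univ.erase l) => (B.nh j).range) i
            (Finset.mem_erase.mpr ⟨hil, Finset.mem_univ _⟩)) ⟨_, rfl⟩
      exact h1
    · intro i l hil
      have h1 : (⟨z, B.zA⟩ : zc Q) ∈ ((B.nh i).comp (B.nh l)).ker := by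
        refine of_V B.VA ?_ B.zV
        intro j v hv
        rw [MonoidHom.mem_ker, MonoidHom.comp_apply]
        by_cases hjl : j = l
        · subst hjl
          rw [B.nh_self hv, B.nh_other (Ne.symm hil) hv]
        · rw [B.nh_other hjl hv, map_one]
      exact h1
    · intro h
      refine idem_eq_one B.nh_comm B.nh_idem Finset.univ _ ?_ fun i _ => h i
      refine of_V B.VA ?_ B.zV
      intro i v hv
      rw [← B.nh_self hv]
      exact (le_iSup₂ (f := fun j (_ : j ∈ Finset.univ) => (B.nh j).range) i (Finset.mem_univ _)) ⟨_, rfl⟩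
  exact B.z1 (congrArg Subtype.val hz1)

/-- LEMMA Z: `C_A(x l : l) = 1`. -/
theorem eq_one_of_nh [Finite G] [Finite ι] {a : zc Q} (h : ∀ l, B.nh l a = 1) : a = 1 := by
  classical
  have := Fintype.ofFinite ι
  exact B.eq_one_of_Nm fun l => mem_sup_left (MonoidHom.mem_ker.mpr (h l))

/-- LEMMA Z: the projections are orthogonal. -/
theorem nh_nh [Finite G] [Finite ι] {i l : ι} (hil : i ≠ l) (a : zc Q) : B.nh i (B.nh l a) = 1 := by
  classical
  have := Fintype.ofFinite ι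
  refine B.eq_one_of_Nm fun m => mem_sup_right ?_
  by_cases hm : i = m
  · subst hm
    rw [B.nh_comm]
    exact (le_iSup₂ (f := fun j (_ : j ∈ Finset.univ.erase i) => (B.nh j).range) l
      (Finset.mem_erase.mpr ⟨Ne.symm hil, Finset.mem_univ _⟩)) ⟨_, rfl⟩
  · exact (le_iSup₂ (f := fun j (_ : j ∈ Finset.univ.erase m) => (B.nh j).range) i
      (Finset.mem_erase.mpr ⟨hm, Finset.mem_univ _⟩)) ⟨_, rfl⟩

/-- LEMMA Z: `a = ∏ nh l a`. -/
theorem prod_nh [Finite G] [Fintype ι] (a : zc Q) : ∏ l, B.nh l a = a := by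
  classical
  have h1 : (∏ l, B.nh l a)⁻¹ * a = 1 := by
    refine B.eq_one_of_nh fun i => ?_
    rw [map_mul, map_inv, map_prod]
    have h2 : ∏ l, B.nh i (B.nh l a) = B.nh i a := by
      rw [Finset.prod_eq_single i, B.nh_idem]
      · intro l _ hl
        exact B.nh_nh (Ne.symm hl) a
      · intro h
        exact absurd (Finset.mem_univ i) h
    rw [h2, inv_mul_cancel]
  exact (inv_mul_eq_one.mp h1)

omit B in
theorem map_mul_of_map {g h : G} {l m n : ι} (h1 : (V l).map (MulAut.conj h).toMonoidHom = V m)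
    (h2 : (V m).map (MulAut.conj g).toMonoidHom = V n) :
    (V l).map (MulAut.conj (g * h)).toMonoidHom = V n := by
  rw [← h2, ← h1, Subgroup.map_map]
  congr 1
  ext y
  simp [mul_assoc]

omit B in
theorem mem_norm_of_map [Finite G] {g : G} {l : ι} (h : (V l).map (MulAut.conj g).toMonoidHom = V l) :
    g ∈ normalizer (V l : Set G) := Count.mem_norm fun _ hx => mem_of_map h hx

omit B in
theorem map_of_mem_norm [Finite G] {g : G} {l : ι} (h : g ∈ normalizer (V l : Set G)) :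
    (V l).map (MulAut.conj g).toMonoidHom = V l := by
  refine eq_of_le_of_card_ge ?_ ?_
  · rintro _ ⟨v, hv, rfl⟩
    exact conj_mem h hv
  · rw [card_map_of_injective (MulAut.conj g).injective]

/-- **LEMMA Z**: `C_{[A, x l]}(N_S(V l)) ≤ ⟨z l⟩`. -/
theorem fixed [Finite G] [Finite ι] {l : ι} {a : zc Q} (ha : B.nh l a = a)
    (hT : ∀ t ∈ S, t ∈ normalizer (V l : Set G) → t * (a : G) = a * t) :
    a = 1 ∨ a = B.nh l ⟨z, B.zA⟩ := by
  classical
  have := Fintype.ofFinite ι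
  choose s hsS hsV using fun m => B.tr l m
  set b : zc Q := ∏ m, B.cj ⟨s m, B.SP (hsS m)⟩ a with hb
  have hbS : ∀ (g : G) (hg : g ∈ S), B.cj ⟨g, B.SP hg⟩ b = b := by
    intro g hg
    choose σ hσ using B.perm g (B.SP hg)
    have hinj : Function.Injective σ := by
      intro m m' hmm
      have h1 := hσ m
      rw [hmm, ← hσ m'] at h1
      exact B.inj _ _ (Subgroup.map_injective (MulAut.conj g).injective h1)
    have hbij : Function.Bijective σ := Finite.injective_iff_bijective.mp hinj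
    rw [hb, map_prod]
    refine Fintype.prod_bijective σ hbij _ _ ?_
    intro m
    have h1 : (s (σ m))⁻¹ * (g * s m) ∈ S := mul_mem (inv_mem (hsS _)) (mul_mem hg (hsS m))
    have h2 : (s (σ m))⁻¹ * (g * s m) ∈ normalizer (V l : Set G) :=
      mem_norm_of_map (map_mul_of_map (map_mul_of_map (hsV m) (hσ m)) (map_inv_of_map (hsV (σ m))))
    have h3 := hT _ h1 h2
    apply Subtype.ext
    rw [cj_coe, cj_coe, cj_coe]
    change g * (s m * a * (s m)⁻¹) * g⁻¹ = s (σ m) * a * (s (σ m))⁻¹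
    calc g * (s m * a * (s m)⁻¹) * g⁻¹
        = s (σ m) * (((s (σ m))⁻¹ * (g * s m)) * a) * (g * s m)⁻¹ := by group
      _ = s (σ m) * (a * ((s (σ m))⁻¹ * (g * s m))) * (g * s m)⁻¹ := by rw [h3]
      _ = s (σ m) * a * (s (σ m))⁻¹ := by group
  have hnb : B.nh l b = a := by
    rw [hb, map_prod, Finset.prod_eq_single l]
    · have h1 : B.cj ⟨s l, B.SP (hsS l)⟩ a = a := by
        apply Subtype.ext
        rw [cj_coe]
        have h2 := hT (s l) (hsS l) (mem_norm_of_map (hsV l))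
        change s l * a * (s l)⁻¹ = a
        rw [h2]; group
      rw [h1, ha]
    · intro m _ hm
      obtain ⟨i, hi⟩ := B.perm (s m)⁻¹ (inv_mem (B.SP (hsS m))) l
      have hi' : (V i).map (MulAut.conj (s m)).toMonoidHom = V l := by
        have := map_inv_of_map hi
        rwa [inv_inv] at this
      have hil : i ≠ l := by
        rintro rfl
        exact hm (B.inj _ _ ((hsV m).symm.trans hi'))
      rw [← B.cj_nh (g := ⟨s m, B.SP (hsS m)⟩) hi', ← ha, B.nh_nh hil, map_one]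
    · intro h
      exact absurd (Finset.mem_univ l) h
  have hbz := B.fix b b.2 (fun g hg => by
    have h1 : g * (b : G) * g⁻¹ = b := congrArg Subtype.val (hbS g hg)
    calc g * (b : G) = g * b * g⁻¹ * g := by group
      _ = b * g := by rw [h1])
  rcases hbz with h | h
  · left
    have hb1 : b = 1 := Subtype.ext h
    rw [← hnb, hb1, map_one]
  · right
    rw [← hnb]
    congr 1
    exact Subtype.ext h

/-! ### The components of `z` -/

theorem zl_mem (l : ι) : ((B.nh l ⟨z, B.zA⟩ : zc Q) : G) ∈ V l := by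
  have h1 : (⟨z, B.zA⟩ : zc Q) ∈ ((V l).subgroupOf (zc Q)).comap (B.nh l) := by
    refine of_V B.VA ?_ B.zV
    intro i v hv
    rw [mem_comap, mem_subgroupOf]
    by_cases hil : i = l
    · subst hil
      rw [B.nh_self hv]; exact hv
    · rw [B.nh_other hil hv]; exact one_mem _
  exact h1

theorem zl_conj [Finite G] {s : G} (hs : s ∈ S) {l m : ι}
    (h : (V l).map (MulAut.conj s).toMonoidHom = V m) :
    s * ((B.nh l ⟨z, B.zA⟩ : zc Q) : G) * s⁻¹ = ((B.nh m ⟨z, B.zA⟩ : zc Q) : G) := by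
  have h1 := B.cj_nh (g := ⟨s, B.SP hs⟩) h ⟨z, B.zA⟩
  have h2 : B.cj ⟨s, B.SP hs⟩ ⟨z, B.zA⟩ = ⟨z, B.zA⟩ := by
    apply Subtype.ext
    rw [cj_coe]
    change s * z * s⁻¹ = z
    rw [B.zS s hs]; group
  rw [h2] at h1
  rw [← h1, cj_coe]

theorem zl_ne [Finite G] [Finite ι] (l : ι) : ((B.nh l ⟨z, B.zA⟩ : zc Q) : G) ≠ 1 := by
  intro h
  apply B.z1
  have h1 : (⟨z, B.zA⟩ : zc Q) = 1 := by
    refine B.eq_one_of_nh fun m => ?_
    obtain ⟨s, hs, hsV⟩ := B.tr l m
    apply Subtype.ext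
    rw [← B.zl_conj hs hsV, h]
    simp
  exact congrArg Subtype.val h1

end

/-- The component `z l` of `z` in `V l`. -/
def zl (B : Blk S P Q V x z) (l : ι) : G := ((B.nh l ⟨z, B.zA⟩ : zc Q) : G)

section
variable (B : Blk S P Q V x z)
include B

theorem zl_mem_V (l : ι) : B.zl l ∈ V l := B.zl_mem l

theorem zl_ne_one [Finite G] [Finite ι] (l : ι) : B.zl l ≠ 1 := B.zl_ne l

theorem zl_sq (l : ι) : B.zl l * B.zl l = 1 := B.sq (B.zl_mem l)

/-- `T l = N_S(V l)` centralises `z l`. -/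
theorem zl_cent [Finite G] {l : ι} {t : G} (ht : t ∈ S) (htV : t ∈ normalizer (V l : Set G)) :
    t * B.zl l = B.zl l * t := by
  have h1 := B.zl_conj ht (map_of_mem_norm htV)
  change t * B.zl l * t⁻¹ = B.zl l at h1
  calc t * B.zl l = t * B.zl l * t⁻¹ * t := by group
    _ = B.zl l * t := by rw [h1]

/-- `(B1)`: `C_A(T_o, x i : i ≠ o) ≤ ⟨z o⟩`. -/
theorem fixed_one [Finite G] [Finite ι] {o : ι} {a : G} (ha : a ∈ zc Q)
    (hx : ∀ i, i ≠ o → x i * a = a * x i)
    (hT : ∀ t ∈ S, t ∈ normalizer (V o : Set G) → t * a = a * t) : a = 1 ∨ a = B.zl o := by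
  classical
  have := Fintype.ofFinite ι
  have h1 : B.nh o ⟨a, ha⟩ = ⟨a, ha⟩ := by
    conv_rhs => rw [← B.prod_nh ⟨a, ha⟩]
    rw [Finset.prod_eq_single o]
    · intro i _ hi
      exact B.nh_eq_one.mpr (hx i hi)
    · intro h
      exact absurd (Finset.mem_univ o) h
  rcases B.fixed h1 hT with h | h
  · exact Or.inl (congrArg Subtype.val h)
  · exact Or.inr (congrArg Subtype.val h)

/-- if `T o` fixes the block `j` then `T o = T j`. -/
theorem normalizer_eq [Finite G] {o j : ι}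
    (hj : S ⊓ normalizer (V o : Set G) ≤ normalizer (V j : Set G)) :
    S ⊓ normalizer (V o : Set G) = S ⊓ normalizer (V j : Set G) := by
  refine eq_of_le_of_card_ge (le_inf inf_le_left hj) ?_
  obtain ⟨s, hs, hsV⟩ := B.tr o j
  have h1 : (S ⊓ normalizer (V j : Set G) : Subgroup G) ≤
      (S ⊓ normalizer (V o : Set G) : Subgroup G).map (MulAut.conj s).toMonoidHom := by
    rintro t ⟨ht1, ht2⟩
    have h0 : s⁻¹ * t * s ∈ S := mul_mem (mul_mem (inv_mem hs) ht1) hs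
    refine ⟨s⁻¹ * t * s, ⟨h0, ?_⟩, by simp [mul_assoc]⟩
    have h2 := map_mul_of_map (map_mul_of_map hsV (map_of_mem_norm ht2)) (map_inv_of_map hsV)
    have h3 := mem_norm_of_map h2
    have h4 : s⁻¹ * (t * s) = s⁻¹ * t * s := by group
    rwa [h4] at h3
  refine (card_le_of_le h1).trans ?_
  rw [card_map_of_injective (MulAut.conj s).injective]

/-- `(B1)`: `C_A(T_o, x i : i ≠ o, j) ≤ ⟨z o, z j⟩` if `T_o` fixes `j`. -/
theorem fixed_two [Finite G] [Finite ι] {o j : ι} (hoj : o ≠ j) {a : G} (ha : a ∈ zc Q)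
    (hx : ∀ i, i ≠ o → i ≠ j → x i * a = a * x i)
    (hT : ∀ t ∈ S, t ∈ normalizer (V o : Set G) → t * a = a * t)
    (hj : S ⊓ normalizer (V o : Set G) ≤ normalizer (V j : Set G)) :
    ∃ u ∈ ({1, B.zl o} : Set G), ∃ v ∈ ({1, B.zl j} : Set G), a = u * v := by
  classical
  have := Fintype.ofFinite ι
  set a' : zc Q := ⟨a, ha⟩ with ha'
  have hprod : B.nh o a' * B.nh j a' = a' := by
    conv_rhs => rw [← B.prod_nh a']
    rw [← Finset.mul_prod_erase Finset.univ _ (Finset.mem_univ o),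
      ← Finset.mul_prod_erase (Finset.univ.erase o) _ (Finset.mem_erase.mpr ⟨Ne.symm hoj, Finset.mem_univ j⟩),
      Finset.prod_eq_one, mul_one]
    intro i hi
    have h1 := Finset.ne_of_mem_erase hi
    have h2 := Finset.ne_of_mem_erase (Finset.mem_of_mem_erase hi)
    exact B.nh_eq_one.mpr (hx i h2 h1)
  have hTc : ∀ l, ∀ t ∈ S, t ∈ normalizer (V l : Set G) → t * a = a * t →
      t * ((B.nh l a' : zc Q) : G) = ((B.nh l a' : zc Q) : G) * t := by
    intro l t ht htV hta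
    have h1 := B.cj_nh (g := ⟨t, B.SP ht⟩) (map_of_mem_norm htV) a'
    have h2 : B.cj ⟨t, B.SP ht⟩ a' = a' := by
      apply Subtype.ext
      rw [cj_coe]
      change t * a * t⁻¹ = a
      rw [hta]; group
    rw [h2] at h1
    have h3 : t * ((B.nh l a' : zc Q) : G) * t⁻¹ = ((B.nh l a' : zc Q) : G) := congrArg Subtype.val h1
    calc t * ((B.nh l a' : zc Q) : G) = t * ((B.nh l a' : zc Q) : G) * t⁻¹ * t := by group
      _ = ((B.nh l a' : zc Q) : G) * t := by rw [h3]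
  have heq := B.normalizer_eq hj
  refine ⟨_, ?_, _, ?_, (congrArg Subtype.val hprod).symm⟩
  · rcases B.fixed (B.nh_idem o a') (fun t ht htV => hTc o t ht htV (hT t ht htV)) with h | h
    · left; exact congrArg Subtype.val h
    · right; exact congrArg Subtype.val h
  · rcases B.fixed (B.nh_idem j a') (fun t ht htV => hTc j t ht htV
      (hT t ht (heq.symm.le ⟨ht, htV⟩ : t ∈ S ⊓ normalizer (V o : Set G)).2)) with h | h
    · left; exact congrArg Subtype.val h
    · right; exact congrArg Subtype.val h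

end

end Blk

end Cfsg.Agent.Omega.IITwo.Three
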