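import Cfsg.Agent.Omega.IITwo.LemZ
import Cfsg.Agent.Omega.IITwo.Full

/-!
# `J(S_a) ≤ O₂(P_a)` and `|W : W ∩ P₁| = 4` (project OMEGA, II.d2 = (L3), `q = 2`; bb OMEGA 14650, helper358)

`H = C_G(z₁)`, `W = O₂(H)`, `C = W ∩ P₁`, `z_j` the involution of `Z_j = V₁ʲ ∩ V₂ʲ`, `D = C_W(z_j)`.

* (A2) `le_normalizer_of_weak` : `W ≤ N_G(J)` for a weakly closed `J ≤ H` (a Thompson subgroup);
  `triv_of_weak` : `[W, V] ≤ W ∩ Ω₁ Z(J) ≤ C_W(V)` if `V ≤ Ω₁ Z(J)`; `comm_mem` : `[W, z_j] ≤ Ω₁ Z(J)`;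
* `relIndex_ne_two` : `|W : D| ≠ 2` if `T₁ = N_S(V₁¹)` fixes the block `j`;
* `ne_of_bad` : `D ≠ C` if `j` is bad and some `y ∈ V₂ʲ` is trivial on `W/D` and nontrivial on `V₁ʲ`;
* (C) `eight_le` : `|W : C| ≥ 8`.
-/

set_option autoImplicit false

namespace Cfsg.Agent.Omega.IITwo.Three

open Subgroup Cfsg Cfsg.Agent.ZN Cfsg.Agent.MinSimple.VModule
open Cfsg.Agent.Omega.IITwo.Count (Three conj_mem conj_mem' ker mem_ker mem_norm Wit rel_ne)
open Cfsg.Agent.Omega.IITwo.Full (Triv Side)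

universe u

variable {G : Type u} [Group G]

/-! ### (A2) -/

/-- A 2-group normalised by `H` normalises every weakly closed 2-subgroup of `H`. -/
theorem le_normalizer_of_weak {J W H : Subgroup G} (hJ2 : IsPGroup 2 J)
    (hJ : ∀ T : Subgroup G, IsPGroup 2 T → J ≤ T → T ≤ normalizer (J : Set G))
    (hW : IsPGroup 2 W) (hHW : H ≤ normalizer (W : Set G)) (hJH : J ≤ H) :
    W ≤ normalizer (J : Set G) :=
  le_sup_right.trans (hJ (J ⊔ W) (IsPGroup.to_sup_of_normal_right' hJ2 hW (hJH.trans hHW)) le_sup_left)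

/-- `[w, v] ∈ W ∩ Ω₁ Z(J)` for `v ∈ Ω₁ Z(J)`. -/
theorem comm_mem {J W : Subgroup G} (hWJ : W ≤ normalizer (J : Set G)) {v w : G} (hv : v ∈ zc J)
    (hvW : v ∈ normalizer (W : Set G)) (hw : w ∈ W) : w⁻¹ * (v * w * v⁻¹) ∈ W ⊓ zc J := by
  have h0 : w⁻¹ * (v * w * v⁻¹) ∈ W := mul_mem (inv_mem hw) (conj_mem hvW hw)
  have h1 : w⁻¹ * v * w ∈ zc J := conj_mem' (normalizer_le_normalizer_zc J (hWJ hw)) hv
  have h2 : w⁻¹ * (v * w * v⁻¹) = w⁻¹ * v * w * v⁻¹ := by group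
  have h3 : w⁻¹ * v * w * v⁻¹ ∈ zc J := mul_mem h1 (inv_mem hv)
  exact ⟨h0, by rw [h2]; exact h3⟩

/-- **(A2)**: `[W, V] ≤ W ∩ Ω₁ Z(J) ≤ C_W(V)`. -/
theorem triv_of_weak {J W V : Subgroup G} (hWJ : W ≤ normalizer (J : Set G)) (hV : V ≤ zc J)
    (hVW : V ≤ normalizer (W : Set G)) : Triv W (W ⊓ centralizer (V : Set G)) V := by
  intro v hv w hw
  have h1 := comm_mem hWJ (hV hv) (hVW hv) hw
  exact ⟨h1.1, mem_centralizer_iff.mpr fun u hu => zc_comm J u (hV hu) _ h1.2⟩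

/-- (A2) for `D = C_W(r)`, `r ∈ V`. -/
theorem triv_of_weak' {J W V : Subgroup G} (hWJ : W ≤ normalizer (J : Set G)) (hV : V ≤ zc J)
    (hVW : V ≤ normalizer (W : Set G)) {r : G} (hr : r ∈ V) :
    Triv W (W ⊓ centralizer ({r} : Set G)) V :=
  (triv_of_weak hWJ hV hVW).mono
    (inf_le_inf_left W (centralizer_le (Set.singleton_subset_iff.mpr hr))) le_rfl

/-- `⟨V^W⟩ ≤ Ω₁ Z(J)` is elementary abelian. -/
theorem conj_mem_zc {J W V : Subgroup G} (hWJ : W ≤ normalizer (J : Set G)) (hV : V ≤ zc J) {v w : G}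
    (hv : v ∈ V) (hw : w ∈ W) : w * v * w⁻¹ ∈ zc J :=
  conj_mem (normalizer_le_normalizer_zc J (hWJ hw)) (hV hv)

/-! ### The index of `D = C_W(z_j)` -/

section

variable {ι : Type*} {S P Q H W : Subgroup G} {V : ι → Subgroup G} {x : ι → G} {z : G}
variable (B : Blk S P Q V x z)
include B

/-- `T_o ≤ C_G(z o)`. -/
theorem T_le_centralizer [Finite G] (o : ι) :
    S ⊓ normalizer (V o : Set G) ≤ centralizer ({B.zl o} : Set G) := by
  rintro t ⟨h1, h2⟩
  refine mem_centralizer_iff.mpr ?_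
  rintro _ rfl
  exact (B.zl_cent h1 h2).symm

/-- `V i ≤ Q ≤ T_o`. -/
theorem Q_le_T (o : ι) : Q ≤ S ⊓ normalizer (V o : Set G) := by
  refine le_inf B.QS ?_
  exact ((le_centralizer_zc Q).trans (centralizer_le (B.VA o))).trans (centralizer_le_normalizer _)

theorem V_le_T (o i : ι) : V i ≤ S ⊓ normalizer (V o : Set G) :=
  ((B.VA i).trans (zc_le Q)).trans (Q_le_T B o)

/-- The side for `star`: `E l = ⟨x l⟩ V l`. -/
theorem side [Finite G] : Side P V (fun l => zpowers (x l) ⊔ V l) where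
  two := by
    intro l
    rintro ⟨a, ha⟩
    exact ⟨1, Subtype.ext (by simpa [pow_two] using B.sq ha)⟩
  EP := fun l => sup_le (zpowers_le.mpr (B.xP l)) (((B.VA l).trans (zc_le Q)).trans (B.QS.trans B.SP))
  VE := fun l => le_sup_right
  nor := fun l => sup_le (zpowers_le.mpr (B.xn l)) le_normalizer
  cent := by
    intro i l hil
    refine sup_le (zpowers_le.mpr (mem_centralizer_iff.mpr fun v hv => (B.xc l i hil v hv).symm)) ?_
    intro u hu
    exact mem_centralizer_iff.mpr fun v hv => B.comm hv hu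
  irr := by
    intro l X hX hn
    by_cases hX1 : X = ⊥
    · exact Or.inl hX1
    · right
      obtain ⟨⟨a, ha⟩, ha1⟩ := (Subgroup.ne_bot_iff_exists_ne_one (H := X)).mp hX1
      have ha1' : a ≠ 1 := fun h => ha1 (Subtype.ext h)
      have hxX : x l ∈ normalizer (X : Set G) := hn (mem_sup_left (mem_zpowers _))
      have hb : x l * a * (x l)⁻¹ ∈ X := conj_mem hxX ha
      obtain ⟨hb1, hab, -, -⟩ := three_cycle (fun u hu => B.sq hu) (fun u hu v hv => B.comm hu hv)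
        (B.xn l) (B.x3 l) (hX ha) ha1'
      refine le_antisymm hX ?_
      intro v hv
      rcases four_all (B.four l) (fun u hu => B.sq hu) (hX ha) (hX hb) ha1' hb1 hab v hv with
        h | h | h | h
      · rw [h]; exact one_mem X
      · rw [h]; exact ha
      · rw [h]; exact hb
      · rw [h]; exact mul_mem ha hb
  nt := by
    intro l
    rw [eq_bot_iff]
    rintro v ⟨hv, hvc⟩
    by_contra hv1
    obtain ⟨-, h2, -, -⟩ := three_cycle (fun u hu => B.sq hu) (fun u hu v hv => B.comm hu hv)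
      (B.xn l) (B.x3 l) hv (fun h => hv1 (mem_bot.mpr h))
    apply h2
    have h3 := mem_centralizer_iff.mp hvc (x l) (mem_sup_left (mem_zpowers _))
    rw [h3]; group
  ne := by
    intro l h
    have h1 := B.four l
    rw [h, card_bot] at h1
    omega
  perm := B.perm

/-- (★): `W ∩ P` centralises `V j`, `j ≠ o`. -/
theorem star [Finite G] (hW : IsPGroup 2 W) (hHW : H ≤ normalizer (W : Set G)) {o j : ι}
    (hTH : S ⊓ normalizer (V o : Set G) ≤ H) (hxj : x j ∈ H) : W ⊓ P ≤ centralizer (V j : Set G) := by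
  refine (side B).star (hW.to_le inf_le_left) inf_le_right ?_
  have h1 : (zpowers (x j) ⊔ V j : Subgroup G) ≤ H :=
    sup_le (zpowers_le.mpr hxj) ((V_le_T B o j).trans hTH)
  exact Half.le_normalizer_inf (h1.trans hHW) (((side B).EP j).trans le_normalizer)

/-- `W` does not centralise `z j`. -/
theorem D_ne [Finite G] [Finite ι] (hc : H ⊓ centralizer (W : Set G) ≤ W) {o j : ι}
    (hTH : S ⊓ normalizer (V o : Set G) ≤ H) (hUW : V j ⊓ W = ⊥) :
    ¬ W ≤ centralizer ({B.zl j} : Set G) := by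
  intro h
  have h1 : B.zl j ∈ H := hTH (V_le_T B o j (B.zl_mem_V j))
  have h2 : B.zl j ∈ W := hc ⟨h1, mem_centralizer_iff.mpr fun w hw =>
    (mem_centralizer_iff.mp (h hw) _ rfl).symm⟩
  have h3 : B.zl j ∈ V j ⊓ W := ⟨B.zl_mem_V j, h2⟩
  rw [hUW, mem_bot] at h3
  exact B.zl_ne_one j h3

omit B in
/-- `{h ∈ H : [W, h] ≤ ⟨r⟩}` is a normal 2-subgroup of `H`, `r ∈ Z(H)` an involution. -/
theorem mem_of_comm [Finite G] (hW : IsPGroup 2 W) (hHW : H ≤ normalizer (W : Set G))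
    (hc : H ⊓ centralizer (W : Set G) ≤ W)
    (hmax : ∀ X : Subgroup G, X ≤ H → IsPGroup 2 X → H ≤ normalizer (X : Set G) → X ≤ W) {r : G}
    (hr : ∀ h ∈ H, h * r = r * h) (hr2 : r * r = 1) {y : G} (hy : y ∈ H)
    (hyW : ∀ w ∈ W, w⁻¹ * (y * w * y⁻¹) = 1 ∨ w⁻¹ * (y * w * y⁻¹) = r) : y ∈ W := by
  have hrH : H ≤ normalizer ((zpowers r : Subgroup G) : Set G) := by
    intro h hh
    refine mem_norm ?_
    intro a ha
    obtain ⟨k, rfl⟩ := mem_zpowers_iff.mp ha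
    have h1 : h * r ^ k * h⁻¹ = r ^ k := by
      rw [← conj_zpow, hr h hh]; group
    rw [h1]
    exact zpow_mem (mem_zpowers r) k
  have hzp : ∀ a ∈ zpowers r, a = 1 ∨ a = r := by
    intro a ha
    obtain ⟨k, rfl⟩ := mem_zpowers_iff.mp ha
    have hr2' : r ^ (2 : ℤ) = 1 := by rw [zpow_two]; exact hr2
    rcases Int.even_or_odd' k with ⟨m, hm | hm⟩
    · left; rw [hm, zpow_mul, hr2', one_zpow]
    · right; rw [hm, zpow_add, zpow_mul, hr2', one_zpow, one_mul, zpow_one]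
  refine hmax (H ⊓ ker W (zpowers r)) inf_le_left ?_ ?_ ⟨hy, hHW hy, hrH hy, fun w hw => ?_⟩
  · rintro ⟨h, hh, hk⟩
    -- `h² ∈ C_H(W) ≤ W`
    have h1 : h * h ∈ W := by
      have h0 : h * h ∈ H := mul_mem hh hh
      refine hc ⟨h0, mem_centralizer_iff.mpr fun w hw => ?_⟩
      have h2 : ∃ e : G, (e = 1 ∨ e = r) ∧ h * w * h⁻¹ = w * e :=
        ⟨_, hzp _ (hk.2.2 w hw), by group⟩
      obtain ⟨e, he, hwe⟩ := h2
      have h3 : h * e * h⁻¹ = e := by
        rcases he with rfl | rfl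
        · group
        · rw [hr h hh]; group
      have h4 : e * e = 1 := by
        rcases he with rfl | rfl
        · group
        · exact hr2
      have h5 : (h * h) * w * (h * h)⁻¹ = w := by
        calc (h * h) * w * (h * h)⁻¹ = h * (h * w * h⁻¹) * h⁻¹ := by group
          _ = h * (w * e) * h⁻¹ := by rw [hwe]
          _ = (h * w * h⁻¹) * (h * e * h⁻¹) := by group
          _ = w * (e * e) := by rw [hwe, h3, mul_assoc]
          _ = w := by rw [h4, mul_one]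
      calc w * (h * h) = (h * h) * w * (h * h)⁻¹ * (h * h) := by rw [h5]
        _ = h * h * w := by group
    obtain ⟨n, hn⟩ := hW ⟨h * h, h1⟩
    have hn' : (h * h) ^ 2 ^ n = 1 := congrArg Subtype.val hn
    refine ⟨n + 1, Subtype.ext ?_⟩
    change h ^ 2 ^ (n + 1) = 1
    rw [pow_succ', pow_mul, pow_two]
    exact hn'
  · intro g hg
    refine mem_norm ?_
    rintro h ⟨hh, hk⟩
    have h0 : g * h * g⁻¹ ∈ H := mul_mem (mul_mem hg hh) (inv_mem hg)
    exact ⟨h0, Count.conj_mem_ker (hHW hg) (hrH hg) hk⟩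
  · rcases hyW w hw with h | h
    · rw [h]; exact one_mem _
    · rw [h]; exact mem_zpowers r

/-- **(B2)**: an involution centralised by `T_o` lies in `Ω₁ Z(Q)`. -/
theorem mem_zc_of_fixed (hcQ : centralizer (Q : Set G) ≤ Q) {o : ι} {a : G} (ha : a * a = 1)
    (hT : ∀ t ∈ S, t ∈ normalizer (V o : Set G) → t * a = a * t) : a ∈ zc Q := by
  have h3 : a ∈ Q := hcQ (mem_centralizer_iff.mpr fun q hq =>
    hT q (B.QS hq) (Q_le_T B o hq).2)
  exact mem_zc.mpr ⟨h3, fun q hq => hT q (B.QS hq) (Q_le_T B o hq).2, by rw [pow_two]; exact ha⟩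

/-- `W ∩ [A, x j] = 1` if `T_o` fixes `j`. -/
theorem eq_one_of_mem [Finite G] [Finite ι] (hHW : H ≤ normalizer (W : Set G)) {o j : ι}
    (hTH : S ⊓ normalizer (V o : Set G) ≤ H)
    (hTj : S ⊓ normalizer (V o : Set G) ≤ normalizer (V j : Set G)) (hUW : V j ⊓ W = ⊥)
    {a : zc Q} (ha : B.nh j a = a) (haW : (a : G) ∈ W) : a = 1 := by
  by_contra ha1
  set X : Subgroup G := (B.nh j).range.map (zc Q).subtype ⊓ W with hX
  have haX : (a : G) ∈ X := ⟨⟨a, ⟨a, ha⟩, rfl⟩, haW⟩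
  have hX1 : X ≠ ⊥ := by
    intro h
    rw [h, mem_bot] at haX
    exact ha1 (Subtype.ext haX)
  have hX2 : IsPGroup 2 X := by
    rintro ⟨b, hb⟩
    have hbA : b ∈ zc Q := (map_subtype_le _) hb.1
    exact ⟨1, Subtype.ext (by simpa using zc_sq Q b hbA)⟩
  have heq := B.normalizer_eq hTj
  have hTX : S ⊓ normalizer (V o : Set G) ≤ normalizer (X : Set G) := by
    refine Half.le_normalizer_inf ?_ (hTH.trans hHW)
    intro t ht
    have htj : t ∈ normalizer (V j : Set G) := hTj ht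
    refine mem_norm ?_
    rintro _ ⟨_, ⟨c, rfl⟩, rfl⟩
    refine ⟨B.cj ⟨t, B.SP ht.1⟩ (B.nh j c), ⟨B.cj ⟨t, B.SP ht.1⟩ c, ?_⟩, rfl⟩
    exact (B.cj_nh (g := ⟨t, B.SP ht.1⟩) (Blk.map_of_mem_norm htj) c).symm
  obtain ⟨v, ⟨⟨_, ⟨c, rfl⟩, rfl⟩, hvW⟩, hv1, hfix⟩ := Half.exists_fixed hX2 hX1
    (B.S2.to_le (inf_le_left : S ⊓ normalizer (V o : Set G) ≤ S)) hTX
  rcases B.fixed (l := j) (a := B.nh j c) (B.nh_idem j c) (fun t ht htV => by
    have h1 := hfix t (heq.symm.le ⟨ht, htV⟩)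
    change t * ((B.nh j c : zc Q) : G) * t⁻¹ = ((B.nh j c : zc Q) : G) at h1
    calc t * ((B.nh j c : zc Q) : G) = t * ((B.nh j c : zc Q) : G) * t⁻¹ * t := by group
      _ = ((B.nh j c : zc Q) : G) * t := by rw [h1]) with h | h
  · apply hv1
    change ((B.nh j c : zc Q) : G) = 1
    rw [h]; rfl
  · have h1 : B.zl j ∈ V j ⊓ W := by
      refine ⟨B.zl_mem_V j, ?_⟩
      have h2 : ((B.nh j c : zc Q) : G) = B.zl j := congrArg Subtype.val h
      rw [← h2]
      exact hvW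
    rw [hUW, mem_bot] at h1
    exact B.zl_ne_one j h1

/-- **`|W : C_W(z j)| ≠ 2`** if `T_o` fixes `j`. -/
theorem relIndex_ne_two [Finite G] [Finite ι] (hcQ : centralizer (Q : Set G) ≤ Q)
    (hW : IsPGroup 2 W) (hWH : W ≤ H) (hHW : H ≤ normalizer (W : Set G)) (hc : H ⊓ centralizer (W : Set G) ≤ W)
    (hmax : ∀ X : Subgroup G, X ≤ H → IsPGroup 2 X → H ≤ normalizer (X : Set G) → X ≤ W)
    {o j : ι} (hoj : o ≠ j) (hTH : S ⊓ normalizer (V o : Set G) ≤ H) (hxH : ∀ i, i ≠ o → x i ∈ H)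
    (hHz : ∀ h ∈ H, h * B.zl o = B.zl o * h)
    (hTj : S ⊓ normalizer (V o : Set G) ≤ normalizer (V j : Set G)) (hUW : V j ⊓ W = ⊥) :
    (W ⊓ centralizer ({B.zl j} : Set G)).relIndex W ≠ 2 := by
  intro h2
  set D : Subgroup G := W ⊓ centralizer ({B.zl j} : Set G) with hD
  set r := B.zl j with hr
  have hrH : r ∈ H := hTH (V_le_T B o j (B.zl_mem_V j))
  have hrr : r * r = 1 := B.zl_sq j
  have hri : r⁻¹ = r := inv_eq_of_mul_eq_one_right hrr
  have hmD : ∀ {w : G}, w ∈ D ↔ w ∈ W ∧ r * w = w * r := by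
    intro w
    rw [hD, mem_inf]
    refine and_congr_right fun _ => ⟨fun h => mem_centralizer_iff.mp h r rfl, fun h => ?_⟩
    refine mem_centralizer_iff.mpr ?_
    rintro _ rfl
    exact h
  have hDW : D ≤ W := inf_le_left
  -- index 2
  have hidx : ∀ a ∈ W, ∀ b ∈ W, a ∉ D → b ∉ D → a⁻¹ * b ∈ D := by
    intro a ha b hb haD hbD
    have h3 : (D.subgroupOf W).index = 2 := h2
    have h4 := mul_mem_iff_of_index_two h3 (a := (⟨a, ha⟩ : W)⁻¹) (b := ⟨b, hb⟩)
    rw [inv_mem_iff] at h4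
    exact mem_subgroupOf.mp (h4.mpr (iff_of_false (fun h => haD (mem_subgroupOf.mp h))
      (fun h => hbD (mem_subgroupOf.mp h))))
  obtain ⟨w, hw, hwD⟩ : ∃ w ∈ W, w ∉ D := by
    by_contra hcon
    push Not at hcon
    have : D = W := le_antisymm hDW hcon
    rw [this, relIndex_self] at h2
    omega
  -- `m = [w, r]`
  have hconst : ∀ u ∈ W, u ∉ D → u * r * u⁻¹ = w * r * w⁻¹ := by
    intro u hu huD
    have h3 := (hmD.mp (hidx w hw u hu hwD huD)).2
    calc u * r * u⁻¹ = w * ((w⁻¹ * u) * r) * u⁻¹ := by group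
      _ = w * (r * (w⁻¹ * u)) * u⁻¹ := by rw [← h3]
      _ = w * r * w⁻¹ := by group
  set m := w * r * w⁻¹ * r with hm
  have hcentm : ∀ h ∈ H, h * r = r * h → h * m = m * h := by
    intro h hh hhr
    have h3 : h * w * h⁻¹ ∈ W := conj_mem (hHW hh) hw
    have h4 : h * w * h⁻¹ ∉ D := by
      intro h5
      apply hwD
      refine hmD.mpr ⟨hw, ?_⟩
      have h6 := (hmD.mp h5).2
      have h7 : h * (r * w) * h⁻¹ = h * (w * r) * h⁻¹ := by
        calc h * (r * w) * h⁻¹ = (h * r) * (w * h⁻¹) := by group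
          _ = r * (h * w * h⁻¹) := by rw [hhr]; group
          _ = (h * w * h⁻¹) * r := h6
          _ = h * w * h⁻¹ * (r * h) * h⁻¹ := by group
          _ = h * w * h⁻¹ * (h * r) * h⁻¹ := by rw [hhr]
          _ = h * (w * r) * h⁻¹ := by group
      exact mul_left_cancel (mul_right_cancel h7)
    have h5 := hconst _ h3 h4
    have h6 : h * m * h⁻¹ = m := by
      calc h * m * h⁻¹ = (h * w * h⁻¹) * ((h * r) * h⁻¹) * (h * w * h⁻¹)⁻¹ * ((h * r) * h⁻¹) := by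
            rw [hm]; group
        _ = (h * w * h⁻¹) * r * (h * w * h⁻¹)⁻¹ * r := by
            rw [hhr]; group
        _ = m := by rw [h5]
    calc h * m = h * m * h⁻¹ * h := by group
      _ = m * h := by rw [h6]
  have hmW : m ∈ W := by
    have h3 : r * w⁻¹ * r⁻¹ ∈ W := conj_mem (hHW hrH) (inv_mem hw)
    have h4 : m = w * (r * w⁻¹ * r⁻¹) := by rw [hm, hri]; group
    rw [h4]
    exact mul_mem hw h3
  have hm1 : m ≠ 1 := by
    intro h
    apply hwD
    refine hmD.mpr ⟨hw, ?_⟩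
    have h3 : w * r * w⁻¹ = r := by
      have := eq_inv_of_mul_eq_one_left h
      rwa [hri] at this
    calc r * w = w * r * w⁻¹ * w := by rw [h3]
      _ = w * r := by group
  have hmr : r * m = m * r := hcentm r hrH rfl
  have hmm : m * m = 1 := by
    have h3 : m * r = w * r * w⁻¹ := by rw [hm, mul_assoc, hrr, mul_one]
    calc m * m = m * m * (r * r) := by rw [hrr, mul_one]
      _ = m * (m * r) * r := by group
      _ = m * (r * m) * r := by rw [hmr]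
      _ = (m * r) * (m * r) := by group
      _ = w * (r * r) * w⁻¹ := by rw [h3]; group
      _ = 1 := by rw [hrr]; group
  -- `T_o` centralises `r`
  have heq := B.normalizer_eq hTj
  have hTr : ∀ t ∈ S, t ∈ normalizer (V o : Set G) → t * r = r * t := by
    intro t ht htV
    exact B.zl_cent ht (heq.le ⟨ht, htV⟩ : t ∈ S ⊓ normalizer (V j : Set G)).2
  have hmT : ∀ t ∈ S, t ∈ normalizer (V o : Set G) → t * m = m * t := fun t ht htV =>
    hcentm t (hTH ⟨ht, htV⟩) (hTr t ht htV)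
  have hmQ : m ∈ zc Q := mem_zc_of_fixed B hcQ hmm hmT
  have hmx : ∀ i, i ≠ o → i ≠ j → x i * m = m * x i := fun i hio hij =>
    hcentm (x i) (hxH i hio) (B.xc i j (Ne.symm hij) r (B.zl_mem_V j))
  have hoW : B.zl o ∈ W := hc ⟨hTH (V_le_T B o o (B.zl_mem_V o)), mem_centralizer_iff.mpr fun w hw =>
    hHz w (hWH hw)⟩
  obtain ⟨a, ha, b, hb, hab⟩ := B.fixed_two hoj hmQ hmx hmT hTj
  have hb1 : b = 1 := by
    rcases hb with hb | hb
    · exact hb
    · exfalso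
      have h3 : a ∈ W := by
        rcases ha with h | h
        · rw [h]; exact one_mem W
        · rw [h]; exact hoW
      have h4 : b ∈ W := by
        have : b = a⁻¹ * m := by rw [hab]; group
        rw [this]
        exact mul_mem (inv_mem h3) hmW
      have h5 : r ∈ V j ⊓ W := ⟨B.zl_mem_V j, by rw [hr, ← show b = B.zl j from hb]; exact h4⟩
      rw [hUW, mem_bot] at h5
      exact B.zl_ne_one j h5
  have hmo : m = B.zl o := by
    rcases ha with ha | ha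
    · exact absurd (by rw [hab, ha, hb1, mul_one]) hm1
    · rw [hab, hb1, mul_one]; exact ha
  -- `r` is trivial on `W / ⟨z o⟩`
  have h3 : r ∈ W := by
    refine mem_of_comm hW hHW hc hmax hHz (B.zl_sq o) hrH ?_
    intro u hu
    have h4 : u⁻¹ ∈ W := inv_mem hu
    by_cases huD : u⁻¹ ∈ D
    · left
      have h5 := (hmD.mp huD).2
      calc u⁻¹ * (r * u * r⁻¹) = (u⁻¹ * r) * (u * r⁻¹) := by group
        _ = (r * u⁻¹) * (u * r⁻¹) := by rw [h5]
        _ = 1 := by group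
    · right
      have h5 := hconst _ h4 huD
      calc u⁻¹ * (r * u * r⁻¹) = (u⁻¹ * r * u⁻¹⁻¹) * r := by rw [hri]; group
        _ = m := by rw [h5]
        _ = B.zl o := hmo
  have h5 : r ∈ V j ⊓ W := ⟨B.zl_mem_V j, h3⟩
  rw [hUW, mem_bot] at h5
  exact B.zl_ne_one j h5

/-- **`C_W(z j) ≠ W ∩ P`** if `j` is bad and some 2-element `y` of `P ∩ H` normalises all the blocks, is
nontrivial on `V j` and trivial on `W/C_W(z j)`. -/
theorem ne_of_bad [Finite G] (hHW : H ≤ normalizer (W : Set G)) {j : ι} (hxj : x j ∈ H) {y : G}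
    (hyH : y ∈ H) (hyP : y ∈ P) (hyn : ∀ i, y ∈ normalizer (V i : Set G))
    (hy2 : IsPGroup 2 (zpowers y)) (hyV : ¬ zpowers y ≤ centralizer (V j : Set G))
    (hyD : ∀ w ∈ W, w⁻¹ * (y * w * y⁻¹) ∈ W ⊓ centralizer ({B.zl j} : Set G))
    (hbad : ¬ ∃ x', Wit W (W ⊓ P) V j x') :
    W ⊓ centralizer ({B.zl j} : Set G) ≠ W ⊓ P := by
  intro h
  rw [h] at hyD
  have hn : ∀ g ∈ H, g ∈ P → g ∈ normalizer ((W ⊓ P : Subgroup G) : Set G) := by
    intro g hg hgP
    have h1 : H ⊓ P ≤ normalizer ((W ⊓ P : Subgroup G) : Set G) :=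
      Half.le_normalizer_inf (inf_le_left.trans hHW) (inf_le_right.trans le_normalizer)
    exact h1 ⟨hg, hgP⟩
  exact hbad ⟨_, Count.wit_of_ker (B.four j) (fun u hu => B.sq hu) (fun u hu v hv => B.comm hu hv)
    (hHW hxj) (hn _ hxj (B.xP j)) (B.xn j) (B.x3 j) (fun i hi => B.xc j i hi) hyn hy2
    (mem_ker.mpr ⟨hHW hyH, hn y hyH hyP, hyD⟩) hyV⟩

/-- **(C)**: `|W : W ∩ P| ≥ 8` if some bad index `j ∈ I` is fixed by `T_o`. -/
theorem eight_le [Finite G] [Finite ι] (hcQ : centralizer (Q : Set G) ≤ Q)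
    (hW : IsPGroup 2 W) (hWH : W ≤ H) (hHW : H ≤ normalizer (W : Set G))
    (hc : H ⊓ centralizer (W : Set G) ≤ W)
    (hmax : ∀ X : Subgroup G, X ≤ H → IsPGroup 2 X → H ≤ normalizer (X : Set G) → X ≤ W)
    {o j : ι} (hoj : o ≠ j) (hTH : S ⊓ normalizer (V o : Set G) ≤ H) (hxH : ∀ i, i ≠ o → x i ∈ H)
    (hHz : ∀ h ∈ H, h * B.zl o = B.zl o * h)
    (hTj : S ⊓ normalizer (V o : Set G) ≤ normalizer (V j : Set G)) (hUW : V j ⊓ W = ⊥) {y : G}
    (hyH : y ∈ H) (hyP : y ∈ P) (hyn : ∀ i, y ∈ normalizer (V i : Set G))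
    (hy2 : IsPGroup 2 (zpowers y)) (hyV : ¬ zpowers y ≤ centralizer (V j : Set G))
    (hyD : ∀ w ∈ W, w⁻¹ * (y * w * y⁻¹) ∈ W ⊓ centralizer ({B.zl j} : Set G))
    (hbad : ¬ ∃ x', Wit W (W ⊓ P) V j x') : 8 ≤ (W ⊓ P).relIndex W := by
  have : Fact (Nat.Prime 2) := ⟨Nat.prime_two⟩
  have h1 := relIndex_ne_two B hcQ hW hWH hHW hc hmax hoj hTH hxH hHz hTj hUW
  have h2 := ne_of_bad B hHW (hxH j (Ne.symm hoj)) hyH hyP hyn hy2 hyV hyD hbad
  have h3 := D_ne B hc hTH hUW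
  set D : Subgroup G := W ⊓ centralizer ({B.zl j} : Set G) with hD
  have hCD : W ⊓ P ≤ D := le_inf inf_le_left
    ((star B hW hHW hTH (hxH j (Ne.symm hoj))).trans
      (centralizer_le (Set.singleton_subset_iff.mpr (B.zl_mem_V j))))
  have h4 : D.relIndex W ≠ 1 := fun h => h3 ((relIndex_eq_one.mp h).trans inf_le_right)
  have h5 : (W ⊓ P).relIndex D ≠ 1 := fun h => h2 (le_antisymm (relIndex_eq_one.mp h) hCD)
  have h6 : D.relIndex W ≠ 0 := rel_ne _ _
  have h7 : (W ⊓ P).relIndex D ≠ 0 := rel_ne _ _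
  obtain ⟨n, hn⟩ : ∃ n, D.relIndex W = 2 ^ n := by
    have := hW.index (D.subgroupOf W)
    exact this
  have h8 : 4 ≤ D.relIndex W := by
    rw [hn] at h1 h4 ⊢
    have hn2 : 2 ≤ n := by
      by_contra hlt
      push Not at hlt
      interval_cases n
      · exact h4 rfl
      · exact h1 rfl
    calc 4 = 2 ^ 2 := by norm_num
      _ ≤ 2 ^ n := Nat.pow_le_pow_right (by norm_num) hn2
  rw [← relIndex_mul_relIndex _ _ _ hCD inf_le_left]
  calc 8 = 2 * 4 := by norm_num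
    _ ≤ _ := Nat.mul_le_mul (by omega) h8

end

end Cfsg.Agent.Omega.IITwo.Three
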